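import Mathlib
import Groth.Prelude.Def_Cyc
import Groth.Agent.Lib.Helper18.Aff.Tower
import Groth.Agent.Lib.Helper18.Aff.FibModel
import Groth.Agent.Lib.Helper18.P1.Regular
import Groth.Agent.Lib.Helper4.DvrGen

/-!
# Schemes over a discrete valuation ring: the base
-/

set_option autoImplicit false
set_option linter.style.haveILetI false
set_option linter.unusedSectionVars false
universe u
open AlgebraicGeometry CategoryTheory Limits IsLocalRing

namespace Groth.Agent.Lib.Helper18.SpBase

open Groth.Agent.Lib.Helper24 Groth.Agent.Lib.Helper24.FibreDim Groth.Agent.Lib.lead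

variable (R : Type u) [CommRing R] [IsDomain R] [IsDiscreteValuationRing R]

/-- the base `Spec R` -/
noncomputable abbrev S : Scheme.{u} := Spec (CommRingCat.of R)

/-- the closed point of the base -/
noncomputable abbrev sPt : S R := IsLocalRing.closedPoint R

/-- the generic point of the base -/
noncomputable abbrev ηPt : S R := genericPoint (S R)

theorem ηPt_eq : ηPt R = Groth.Agent.Lib.Helper4.DvrGen.genPt R :=
  genericPoint_eq_bot_of_affine (CommRingCat.of R)

theorem ηPt_ne_sPt : ηPt R ≠ sPt R := by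
  rw [ηPt_eq]
  intro h
  have h1 : (Groth.Agent.Lib.Helper4.DvrGen.genPt R).asIdeal = (sPt R).asIdeal := by rw [h]
  have h2 : (⊥ : Ideal R) = maximalIdeal R := h1
  exact IsDiscreteValuationRing.not_a_field R h2.symm

theorem eq_ηPt_or_eq_sPt (y : S R) : y = ηPt R ∨ y = sPt R := by
  rw [ηPt_eq]
  by_cases h : (y : PrimeSpectrum R).asIdeal = ⊥
  · left
    exact PrimeSpectrum.ext h
  · right
    apply PrimeSpectrum.ext
    haveI : (y : PrimeSpectrum R).asIdeal.IsPrime := (y : PrimeSpectrum R).isPrime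
    have hmax : (y : PrimeSpectrum R).asIdeal.IsMaximal :=
      Ring.DimensionLEOne.maximalOfPrime h inferInstance
    exact IsLocalRing.eq_maximalIdeal hmax

theorem ηPt_specializes (y : S R) : ηPt R ⤳ y := _root_.genericPoint_specializes y

theorem specializes_sPt (y : S R) : y ⤳ sPt R := by
  rcases eq_ηPt_or_eq_sPt R y with rfl | rfl
  · exact ηPt_specializes R _
  · exact specializes_rfl

theorem not_sPt_specializes_ηPt : ¬ (sPt R ⤳ ηPt R) := by
  intro h
  exact ηPt_ne_sPt R ((ηPt_specializes R (sPt R)).antisymm h).eq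

/-- the dimension function on the base: `1` at the generic point, `0` at the closed point -/
noncomputable def δS : S R → ℤ := fun y => by
  classical
  exact if y = sPt R then 0 else 1

@[simp] theorem δS_sPt : δS R (sPt R) = 0 := by
  unfold δS
  rw [if_pos rfl]

@[simp] theorem δS_ηPt : δS R (ηPt R) = 1 := by
  unfold δS
  rw [if_neg (ηPt_ne_sPt R)]

theorem uc_dvr : CAlg.IsUniversallyCatenary R :=
  Groth.Agent.Lib.Helper12.CMCat.isUniversallyCatenary_of_isCMRing R
    (Groth.Agent.Lib.Helper21.CMKit.isCM_of_isRegularRing R)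

theorem isSetup_S : Cyc.IsSetup (S R) (δS R) := by
  refine ⟨inferInstance, ?_, ?_⟩
  · intro x
    have hU := isAffineOpen_top (S R)
    have hΓ : CAlg.IsUniversallyCatenary Γ(S R, ⊤) :=
      UCScheme.uc_of_ringEquiv
        (Scheme.ΓSpecIso (CommRingCat.of R)).symm.commRingCatIsoToRingEquiv (uc_dvr R)
    letI := TopCat.Presheaf.algebra_section_stalk (S R).presheaf
      (⟨x, trivial⟩ : (⊤ : (S R).Opens))
    haveI : IsLocalization.AtPrime ((S R).presheaf.stalk x)
        (hU.primeIdealOf ⟨x, trivial⟩).asIdeal := hU.isLocalization_stalk ⟨x, trivial⟩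
    haveI : Algebra.EssFiniteType Γ(S R, ⊤) ((S R).presheaf.stalk x) :=
      Algebra.EssFiniteType.of_isLocalization _ (hU.primeIdealOf ⟨x, trivial⟩).asIdeal.primeCompl
    exact EssFTCat.main Γ(S R, ⊤) ((S R).presheaf.stalk x) hΓ
  · intro x y hxy hne
    rcases eq_ηPt_or_eq_sPt R x with rfl | rfl
    · rcases eq_ηPt_or_eq_sPt R y with rfl | rfl
      · exact absurd rfl hne
      · refine ⟨?_, fun _ => ?_⟩
        · rw [δS_sPt, δS_ηPt]; norm_num
        · rw [δS_sPt, δS_ηPt]; norm_num
    · rcases eq_ηPt_or_eq_sPt R y with rfl | rfl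
      · exact absurd hxy (not_sPt_specializes_ηPt R)
      · exact absurd rfl hne

section overBase

variable {R} {X : Scheme.{u}} (a : X ⟶ S R) [LocallyOfFiniteType a]

/-- the dimension function on a scheme locally of finite type over the base -/
noncomputable def δX : X → ℤ := fun x => δS R (a x) + (tr a x : ℕ)

theorem deltaCompat_δX : Cyc.DeltaCompat a (δX a) (δS R) :=
  fun x => ⟨tr a x, tr_spec a x, rfl⟩

theorem isSetup_X : Cyc.IsSetup X (δX a) :=
  Groth.Agent.Lib.Helper18.P1Core.isSetup_of_lft a (δS R) (isSetup_S R) (δX a) (deltaCompat_δX a)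

theorem a_fiberι (y : S R) (z : a.fiber y) : a (a.fiberι y z) = y :=
  Groth.Agent.Lib.Helper18.AffFib.f_g (IsPullback.of_hasPullback a ((S R).fromSpecResidueField y)) z

theorem range_fiberι (y : S R) : Set.range (a.fiberι y) = a ⁻¹' {y} := a.range_fiberι y

theorem δX_fiberι (y : S R) (δy : ↥(a.fiber y) → ℤ)
    (h : Cyc.DeltaCompat (a.fiberToSpecResidueField y) δy (fun _ => 0)) (z : a.fiber y) :
    δX a (a.fiberι y z) = δy z + δS R y := by
  have sq := IsPullback.of_hasPullback a ((S R).fromSpecResidueField y)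
  haveI := Groth.Agent.Lib.Helper18.AffFib.lft_h sq
  have h1 := Groth.Agent.Lib.Helper18.AffFib.deltaCompat_h sq (δX a) (δS R) (deltaCompat_δX a)
  have e1 := Groth.Agent.Lib.Helper18.CycPull.delta_eq_add_tr _ _ _ h1 z
  have e2 := Groth.Agent.Lib.Helper18.CycPull.delta_eq_add_tr _ _ _ h z
  have e1' : δX a (a.fiberι y z) = δS R y + (tr (pullback.snd a ((S R).fromSpecResidueField y)) z : ℕ) := e1
  have e2' : δy z = 0 + (tr (pullback.snd a ((S R).fromSpecResidueField y)) z : ℕ) := e2
  rw [e1', e2']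
  ring

theorem δX_fiberι_η (δη : ↥(a.fiber (ηPt R)) → ℤ)
    (h : Cyc.DeltaCompat (a.fiberToSpecResidueField (ηPt R)) δη (fun _ => 0))
    (z : a.fiber (ηPt R)) : δX a (a.fiberι (ηPt R) z) = δη z + 1 := by
  rw [δX_fiberι a _ δη h z, δS_ηPt]

theorem δX_fiberι_s (δs : ↥(a.fiber (sPt R)) → ℤ)
    (h : Cyc.DeltaCompat (a.fiberToSpecResidueField (sPt R)) δs (fun _ => 0))
    (z : a.fiber (sPt R)) : δX a (a.fiberι (sPt R) z) = δs z := by
  rw [δX_fiberι a _ δs h z, δS_sPt, add_zero]

end overBase

end Groth.Agent.Lib.Helper18.SpBase
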