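import Mathlib
import Groth.Agent.Lib.Helper18.Sp.Base
import Groth.Agent.Lib.Helper24.Models.FlatReg

/-!
# Schemes over a discrete valuation ring: the uniformizer as a global function
-/

set_option autoImplicit false
set_option linter.style.haveILetI false
set_option linter.unusedSectionVars false
universe u
open AlgebraicGeometry CategoryTheory Limits IsLocalRing

namespace Groth.Agent.Lib.Helper18.SpBase

open Groth.Agent.Lib.Helper24.Models

variable (R : Type u) [CommRing R] [IsDomain R] [IsDiscreteValuationRing R]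

/-- a uniformizer of `R` -/
noncomputable def unif : R := Classical.choose (IsDiscreteValuationRing.exists_irreducible R)

theorem unif_irreducible : Irreducible (unif R) :=
  Classical.choose_spec (IsDiscreteValuationRing.exists_irreducible R)

theorem unif_ne_zero : unif R ≠ 0 := (unif_irreducible R).ne_zero

theorem maximalIdeal_eq_span_unif : maximalIdeal R = Ideal.span {unif R} :=
  (unif_irreducible R).maximalIdeal_eq

/-- the uniformizer as a global function on the base -/
noncomputable def πS : Γ(S R, ⊤) := (Scheme.ΓSpecIso (CommRingCat.of R)).inv.hom (unif R)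

theorem basicOpen_πS : (S R).basicOpen (πS R) = PrimeSpectrum.basicOpen (unif R) :=
  basicOpen_eq_of_affine (R := CommRingCat.of R) (unif R)

theorem sPt_notMem_basicOpen : sPt R ∉ (S R).basicOpen (πS R) := by
  rw [basicOpen_πS]
  intro h
  have h1 : unif R ∉ (sPt R).asIdeal := h
  apply h1
  show unif R ∈ maximalIdeal R
  rw [maximalIdeal_eq_span_unif]
  exact Ideal.mem_span_singleton_self _

theorem ηPt_mem_basicOpen : ηPt R ∈ (S R).basicOpen (πS R) := by
  rw [basicOpen_πS, ηPt_eq]
  show unif R ∉ (⊥ : Ideal R)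
  rw [Ideal.mem_bot]
  exact unif_ne_zero R

theorem mem_basicOpen_iff (y : S R) : y ∈ (S R).basicOpen (πS R) ↔ y = ηPt R := by
  constructor
  · intro h
    rcases eq_ηPt_or_eq_sPt R y with rfl | rfl
    · rfl
    · exact absurd h (sPt_notMem_basicOpen R)
  · rintro rfl
    exact ηPt_mem_basicOpen R

/-- the maximal ideal of the local ring of the base at the closed point -/
theorem maximalIdeal_stalk_eq (y : S R) (hy : y = sPt R) :
    maximalIdeal ((S R).presheaf.stalk y) =
      Ideal.span {((S R).presheaf.germ ⊤ y trivial).hom (πS R)} := by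
  have hU := isAffineOpen_top (S R)
  letI := TopCat.Presheaf.algebra_section_stalk (S R).presheaf (⟨y, trivial⟩ : (⊤ : (S R).Opens))
  haveI : IsLocalization.AtPrime ((S R).presheaf.stalk y)
      (hU.primeIdealOf ⟨y, trivial⟩).asIdeal := hU.isLocalization_stalk ⟨y, trivial⟩
  have h1 := IsLocalization.AtPrime.map_eq_maximalIdeal (hU.primeIdealOf ⟨y, trivial⟩).asIdeal
    ((S R).presheaf.stalk y)
  have h2 : (hU.primeIdealOf ⟨y, trivial⟩).asIdeal = Ideal.span {πS R} := by
    ext g
    have hg : g ∈ (hU.primeIdealOf ⟨y, trivial⟩).asIdeal ↔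
        ((S R).presheaf.germ ⊤ y trivial).hom g ∈ maximalIdeal ((S R).presheaf.stalk y) := by
      rw [hU.primeIdealOf_eq_map_closedPoint ⟨y, trivial⟩]
      rfl
    rw [hg, mem_maximalIdeal, mem_nonunits_iff, ← (S R).mem_basicOpen g y trivial]
    have key : y ∈ (S R).basicOpen g ↔
        (Scheme.ΓSpecIso (CommRingCat.of R)).hom.hom g ∉ maximalIdeal R := by
      rw [basicOpen_eq_of_affine' (R := CommRingCat.of R) g]
      subst hy
      rfl
    rw [key, not_not]
    rw [maximalIdeal_eq_span_unif, Ideal.mem_span_singleton', Ideal.mem_span_singleton']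
    constructor
    · rintro ⟨c, hc⟩
      refine ⟨(Scheme.ΓSpecIso (CommRingCat.of R)).inv.hom c, ?_⟩
      have hinj : Function.Injective (Scheme.ΓSpecIso (CommRingCat.of R)).hom.hom :=
        (ConcreteCategory.bijective_of_isIso _).1
      apply hinj
      rw [map_mul, ← hc]
      unfold πS
      congr 1
      · exact Iso.inv_hom_id_apply (Scheme.ΓSpecIso (CommRingCat.of R)) c
      · exact Iso.inv_hom_id_apply (Scheme.ΓSpecIso (CommRingCat.of R)) (unif R)
    · rintro ⟨c, rfl⟩
      refine ⟨(Scheme.ΓSpecIso (CommRingCat.of R)).hom.hom c, ?_⟩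
      rw [map_mul]
      congr 1
      unfold πS
      exact (Iso.inv_hom_id_apply (Scheme.ΓSpecIso (CommRingCat.of R)) (unif R)).symm
  rw [← h1, h2, Ideal.map_span, Set.image_singleton]
  rfl

section overBase

variable {R} {X : Scheme.{u}} (a : X ⟶ S R)

/-- the uniformizer as a global function on a scheme over the base -/
noncomputable abbrev πX : Γ(X, ⊤) := pullbackElt a (unif R)

/-- the germ of the uniformizer -/
noncomputable def ϖ (x : X) : X.presheaf.stalk x := (X.presheaf.germ ⊤ x trivial).hom (πX a)

theorem stalkMap_germ_πS (x : X) :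
    (a.stalkMap x).hom (((S R).presheaf.germ ⊤ (a x) trivial).hom (πS R)) = ϖ a x :=
  Scheme.Hom.germ_stalkMap_apply a ⊤ x trivial (πS R)

theorem map_maximalIdeal_eq (x : X) (hx : a x = sPt R) :
    (maximalIdeal ((S R).presheaf.stalk (a x))).map (a.stalkMap x).hom = Ideal.span {ϖ a x} := by
  rw [maximalIdeal_stalk_eq R (a x) hx, Ideal.map_span, Set.image_singleton, stalkMap_germ_πS]

theorem isUnit_ϖ_iff (x : X) : IsUnit (ϖ a x) ↔ a x = ηPt R := by
  unfold ϖ
  rw [← X.mem_basicOpen (πX a) x trivial, ← preimage_basicOpen_eq a (unif R)]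
  rw [← mem_basicOpen_iff R (a x), basicOpen_πS]
  rfl

theorem ϖ_mem_maximalIdeal (x : X) (hx : a x = sPt R) :
    ϖ a x ∈ maximalIdeal (X.presheaf.stalk x) := by
  rw [mem_maximalIdeal, mem_nonunits_iff, isUnit_ϖ_iff, hx]
  exact (ηPt_ne_sPt R).symm

theorem isSMulRegular_ϖ [Flat a] (x : X) : IsSMulRegular (X.presheaf.stalk x) (ϖ a x) :=
  isSMulRegular_germ_of_flat a (unif R) (unif_ne_zero R) x

end overBase

end Groth.Agent.Lib.Helper18.SpBase
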