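import Mathlib
import Groth.Agent.Lib.Helper18.Sp.Unif
import Groth.Agent.Lib.Helper18.P1.Core
import Groth.Agent.Lib.Helper18.P1.Length
import Groth.Agent.Lib.Helper18.Cyc.PullDiv
import Groth.Agent.Lib.Helper18.Cyc.C1Core

/-!
# The specialization map in terms of the orders of the uniformizer
-/

set_option autoImplicit false
set_option linter.style.haveILetI false
set_option linter.unusedSectionVars false
universe u
open AlgebraicGeometry CategoryTheory Limits IsLocalRing Classical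

namespace Groth.Agent.Lib.Helper18.SpBridge

open Groth.Agent.Lib.Helper18.SpBase Groth.Agent.Lib.Helper18.P1Core
  Groth.Agent.Lib.Helper18.CycPull Groth.Agent.Lib.Helper18.C1Core Groth.Agent.Lib.Helper18.CycDiv

variable {R : Type u} [CommRing R] [IsDomain R] [IsDiscreteValuationRing R]
  {X : Scheme.{u}} (a : X ⟶ S R) [LocallyOfFiniteType a]

theorem specMap_ϖ {x ξ : X} (h : ξ ⤳ x) :
    Cyc.specMap x ξ h (ϖ a x) = (X.residue ξ).hom (ϖ a ξ) := by
  unfold ϖ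
  exact P1Core.specMap_germ h ⊤ trivial (πX a)

theorem specMap_ϖ_ne_zero {x ξ : X} (h : ξ ⤳ x) (hξ : a ξ = ηPt R) :
    Cyc.specMap x ξ h (ϖ a x) ≠ 0 := by
  rw [specMap_ϖ]
  intro h0
  have hu : IsUnit (ϖ a ξ) := (isUnit_ϖ_iff a ξ).2 hξ
  have := (IsLocalRing.residue_eq_zero_iff _).1 h0
  exact (mem_maximalIdeal _).1 this hu

/-- the multiplicity in the specialization map is the order of the uniformizer -/
theorem spMult_eq {x ξ : X} (h : ξ ⤳ x) (hx : a x = sPt R) (hξ : a ξ = ηPt R)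
    (hd : δX a x + 1 = δX a ξ) :
    ((Module.length (X.presheaf.stalk x)
        (Cyc.LocQuot x ξ h ⧸
          (IsLocalRing.maximalIdeal ((S R).presheaf.stalk (a x))).map
            ((Ideal.Quotient.mk (RingHom.ker (Cyc.specMap x ξ h))).comp
              (a.stalkMap x).hom))).toNat : ℤ) = ordG x (ϖ a x) ξ := by
  have hXs := isSetup_X a
  haveI : IsLocallyNoetherian X := hXs.1
  have hdl := krullDimLE_one_locQuot (δX a) hXs.2.2 h hd
  have hne := specMap_ϖ_ne_zero a h hξ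
  unfold ordG
  rw [dif_pos h, ordAt_specMap h hdl (ϖ a x) hne]
  have hI : (IsLocalRing.maximalIdeal ((S R).presheaf.stalk (a x))).map
      ((Ideal.Quotient.mk (RingHom.ker (Cyc.specMap x ξ h))).comp (a.stalkMap x).hom) =
      Ideal.span {Ideal.Quotient.mk (RingHom.ker (Cyc.specMap x ξ h)) (ϖ a x)} := by
    rw [← Ideal.map_map, map_maximalIdeal_eq a x hx, Ideal.map_span, Set.image_singleton]
  rw [hI]
  congr 2
  unfold Ring.ord
  exact Module.length_eq_of_surjective (R := Cyc.LocQuot x ξ h) (S := X.presheaf.stalk x)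
    (M := Cyc.LocQuot x ξ h ⧸
      Ideal.span {Ideal.Quotient.mk (RingHom.ker (Cyc.specMap x ξ h)) (ϖ a x)})
    Ideal.Quotient.mk_surjective

/-- extension by zero of a function on the generic fibre -/
noncomputable def ext (α : ↥(a.fiber (ηPt R)) → ℤ) : X → ℤ :=
  Function.extend (a.fiberι (ηPt R)) α (0 : X → ℤ)

theorem fiberι_injective (y : S R) : Function.Injective (a.fiberι y) :=
  (a.fiberι y).isEmbedding.injective

theorem ext_fiberι (α : ↥(a.fiber (ηPt R)) → ℤ) (ζ : ↥(a.fiber (ηPt R))) :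
    ext a α (a.fiberι (ηPt R) ζ) = α ζ :=
  (fiberι_injective a (ηPt R)).extend_apply α (0 : X → ℤ) ζ

theorem ext_of_notMem (α : ↥(a.fiber (ηPt R)) → ℤ) (ξ : X)
    (hξ : ξ ∉ Set.range (a.fiberι (ηPt R))) : ext a α ξ = 0 :=
  Function.extend_apply' α (0 : X → ℤ) ξ (fun ⟨ζ, hζ⟩ => hξ ⟨ζ, hζ⟩)

theorem ext_of_ne (α : ↥(a.fiber (ηPt R)) → ℤ) (ξ : X) (hξ : a ξ ≠ ηPt R) : ext a α ξ = 0 := by
  apply ext_of_notMem
  rw [range_fiberι]
  exact hξ

/-- **the specialization map as a weighted sum of orders of the uniformizer** -/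
theorem spFun_eq (δη : ↥(a.fiber (ηPt R)) → ℤ) (δs : ↥(a.fiber (sPt R)) → ℤ)
    (hδη : Cyc.DeltaCompat (a.fiberToSpecResidueField (ηPt R)) δη (fun _ => 0))
    (hδs : Cyc.DeltaCompat (a.fiberToSpecResidueField (sPt R)) δs (fun _ => 0))
    (r : ℤ) (α : ↥(a.fiber (ηPt R)) → ℤ) (x : ↥(a.fiber (sPt R))) :
    Cyc.spFun a (ηPt R) (sPt R) δη δs r α x =
      if δs x = r then ordSum (δX a) (ext a α) (a.fiberι (sPt R) x) (ϖ a (a.fiberι (sPt R) x))
      else 0 := by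
  unfold Cyc.spFun
  by_cases hx : δs x = r
  swap
  · rw [if_neg hx, if_neg hx]
  rw [if_pos hx, if_pos hx]
  set xb : X := a.fiberι (sPt R) x with hxb
  have haxb : a xb = sPt R := a_fiberι a _ x
  have hδxb : δX a xb = r := by rw [hxb, δX_fiberι_s a δs hδs x, hx]
  have hterm : ∀ ζ : {ζ : ↥(a.fiber (ηPt R)) // δη ζ = r ∧ (a.fiberι (ηPt R) ζ) ⤳ xb},
      α ζ.1 * ((Module.length (X.presheaf.stalk xb)
        (Cyc.LocQuot xb (a.fiberι (ηPt R) ζ.1) ζ.2.2 ⧸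
          (IsLocalRing.maximalIdeal ((S R).presheaf.stalk (a xb))).map
            ((Ideal.Quotient.mk (RingHom.ker (Cyc.specMap xb (a.fiberι (ηPt R) ζ.1) ζ.2.2))).comp
              (a.stalkMap xb).hom))).toNat : ℤ) =
      ext a α (a.fiberι (ηPt R) ζ.1) * ordG xb (ϖ a xb) (a.fiberι (ηPt R) ζ.1) := by
    intro ζ
    rw [ext_fiberι, spMult_eq a ζ.2.2 haxb (a_fiberι a _ ζ.1)
      (by rw [hδxb, δX_fiberι_η a δη hδη ζ.1, ζ.2.1])]
  rw [finsum_congr hterm]
  have h0 := finsum_set_coe_eq_finsum_mem (f := fun ζ : ↥(a.fiber (ηPt R)) =>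
      ext a α (a.fiberι (ηPt R) ζ) * ordG xb (ϖ a xb) (a.fiberι (ηPt R) ζ))
    {ζ : ↥(a.fiber (ηPt R)) | δη ζ = r ∧ (a.fiberι (ηPt R) ζ) ⤳ xb}
  rw [show ∑ᶠ ζ : {ζ : ↥(a.fiber (ηPt R)) // δη ζ = r ∧ (a.fiberι (ηPt R) ζ) ⤳ xb},
      ext a α (a.fiberι (ηPt R) ζ.1) * ordG xb (ϖ a xb) (a.fiberι (ηPt R) ζ.1) = _ from h0]
  rw [← finsum_mem_image (f := fun ξ : X => ext a α ξ * ordG xb (ϖ a xb) ξ)
    ((fiberι_injective a (ηPt R)).injOn)]
  unfold ordSum
  apply finsum_mem_inter_support_eq'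
  intro ξ hξ
  have hne : ext a α ξ ≠ 0 := left_ne_zero_of_mul hξ
  constructor
  · rintro ⟨ζ, ⟨h1, h2⟩, rfl⟩
    exact ⟨h2, by rw [hδxb, δX_fiberι_η a δη hδη ζ, h1]⟩
  · rintro ⟨h1, h2⟩
    have hr : ξ ∈ Set.range (a.fiberι (ηPt R)) := by
      by_contra hn
      exact hne (ext_of_notMem a α ξ hn)
    obtain ⟨ζ, rfl⟩ := hr
    refine ⟨ζ, ⟨?_, h1⟩, rfl⟩
    rw [hδxb, δX_fiberι_η a δη hδη ζ] at h2
    omega

end Groth.Agent.Lib.Helper18.SpBridge
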