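import Mathlib
import Groth.Agent.Lib.Helper18.Push.ProjFormula

/-!
# Proper push-forward of the divisor of a family of functions on a cycle
-/

set_option autoImplicit false
set_option linter.style.haveILetI false
universe u
open AlgebraicGeometry CategoryTheory IsLocalRing

namespace Groth.Agent.Lib.Helper18.Push

open Groth.Agent.Lib.Helper18.CycMap Groth.Agent.Lib.Helper18.CycDiv

variable {X Y : Scheme.{u}}

/-- `p_* (Σ_ξ α(ξ) div_ξ(p^* G)) = Σ_η (p_* α)(η) div_η(G)`, pointwise, for a family of nonzero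
functions `G η ∈ κ(η)` on the points of `Y`. -/
theorem push_divCap [IsLocallyNoetherian X] [IsLocallyNoetherian Y] (p : X ⟶ Y)
    [IsProper p] (δX : X → ℤ) (δY : Y → ℤ) (hdimX : Cyc.IsDimFun X δX)
    (hdimY : Cyc.IsDimFun Y δY) (hδ : Cyc.DeltaCompat p δX δY) (α : AlgebraicCycle X ℤ)
    (G : (η : Y) → Y.residueField η) (hG0 : ∀ η, G η ≠ 0) (y : Y) :
    ∑ᶠ x ∈ p ⁻¹' {y}, (∑ᶠ ξ : X, α ξ * Cyc.divFun δX ξ ((p.residueFieldMap ξ).hom (G (p ξ))) x) *
        ((AlgebraicCycle.mapCoeff p δX δY x : ℕ) : ℤ) =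
      ∑ᶠ η : Y, (AlgebraicCycle.map p δX δY α) η * Cyc.divFun δY η (G η) y := by
  classical
  obtain ⟨_, ⟨V, hV : IsAffineOpen V, rfl⟩, hyV, -⟩ :=
    Y.isBasis_affineOpens.exists_subset_of_mem_open (Set.mem_univ y) isOpen_univ
  have hc : IsCompact (p ⁻¹ᵁ V : Set X) :=
    QuasiCompact.isCompact_preimage (f := p) _ V.isOpen hV.isCompact
  have hI : ((p ⁻¹ᵁ V : Set X) ∩ Function.support α).Finite :=
    α.locallyFiniteSupport.finite_inter_support_of_isCompact hc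
  let D : X → X → ℤ := fun ξ x => Cyc.divFun δX ξ ((p.residueFieldMap ξ).hom (G (p ξ))) x
  let mc : X → ℤ := fun x => ((AlgebraicCycle.mapCoeff p δX δY x : ℕ) : ℤ)
  let F : X → ℤ := fun ξ => α ξ * (mc ξ * Cyc.divFun δY (p ξ) (G (p ξ)) y)
  have hFsupp : Function.support F ⊆ hI.toFinset := by
    intro ξ hξ
    rw [Set.Finite.coe_toFinset]
    have h1 : α ξ ≠ 0 := left_ne_zero_of_mul hξ
    have h2 : Cyc.divFun δY (p ξ) (G (p ξ)) y ≠ 0 :=
      right_ne_zero_of_mul (right_ne_zero_of_mul hξ)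
    exact ⟨(specializes_of_divFun_ne_zero δY _ _ y h2).mem_open V.isOpen hyV, h1⟩
  have hGne : ∀ ξ : X, (p.residueFieldMap ξ).hom (G (p ξ)) ≠ 0 := fun ξ =>
    (map_ne_zero_iff _ (p.residueFieldMap ξ).hom.injective).2 (hG0 (p ξ))
  have hfinD : ∀ ξ : X, (p ⁻¹' {y} ∩ Function.support (fun x => D ξ x * mc x)).Finite := by
    intro ξ
    have hfin := (locallyFiniteSupport_divFun δX ξ _ (hGne ξ)).finite_inter_support_of_isCompact hc
    refine hfin.subset ?_
    rintro x ⟨hx, hne⟩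
    refine ⟨?_, left_ne_zero_of_mul hne⟩
    show p x ∈ V
    rw [show p x = y from hx]
    exact hyV
  -- the left-hand side
  have hL1 : ∀ x ∈ p ⁻¹' {y}, (∑ᶠ ξ : X, α ξ * D ξ x) * mc x =
      ∑ ξ ∈ hI.toFinset, α ξ * (D ξ x * mc x) := by
    intro x hx
    rw [finsum_eq_sum_of_support_subset _ (s := hI.toFinset), Finset.sum_mul]
    · exact Finset.sum_congr rfl fun ξ _ => mul_assoc _ _ _
    · intro ξ hξ
      rw [Set.Finite.coe_toFinset]
      have h1 : α ξ ≠ 0 := left_ne_zero_of_mul hξ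
      have h2 : D ξ x ≠ 0 := right_ne_zero_of_mul hξ
      have hs : ξ ⤳ x := specializes_of_divFun_ne_zero δX _ _ x h2
      have hxK : x ∈ (p ⁻¹ᵁ V : Set X) := by
        show p x ∈ V
        rw [show p x = y from hx]
        exact hyV
      exact ⟨hs.mem_open (p ⁻¹ᵁ V).isOpen hxK, h1⟩
  show ∑ᶠ x ∈ p ⁻¹' {y}, (∑ᶠ ξ : X, α ξ * D ξ x) * mc x = _
  rw [finsum_mem_congr rfl hL1, finsum_mem_finset_sum]
  swap
  · intro ξ _
    refine (hfinD ξ).subset ?_
    rintro x ⟨hx, hne⟩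
    exact ⟨hx, right_ne_zero_of_mul hne⟩
  have hL2 : ∀ ξ ∈ hI.toFinset, ∑ᶠ x ∈ p ⁻¹' {y}, α ξ * (D ξ x * mc x) = F ξ := by
    intro ξ _
    rw [← mul_finsum_mem]
    show α ξ * _ = α ξ * _
    rw [push_divFun_residueFieldMap p δX δY hdimX hdimY hδ ξ (G (p ξ)) (hG0 (p ξ)) y]
  rw [Finset.sum_congr rfl hL2]
  -- the right-hand side
  have hR1 : ∀ η : Y, (AlgebraicCycle.map p δX δY α) η * Cyc.divFun δY η (G η) y =
      ∑ᶠ ξ ∈ p ⁻¹' {η}, F ξ := by
    intro η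
    simp only [AlgebraicCycle.map, Function.locallyFinsupp.map_apply]
    rw [finsum_mem_mul]
    refine finsum_mem_congr rfl (fun ξ hξ => ?_)
    have hξ' : p ξ = η := hξ
    subst hξ'
    show α ξ * mc ξ * _ = α ξ * (mc ξ * _)
    rw [mul_assoc]
  rw [finsum_congr hR1, finsum_fiberwise p F (hI.toFinset.finite_toSet.subset hFsupp),
    finsum_eq_sum_of_support_subset F hFsupp]

end Groth.Agent.Lib.Helper18.Push
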