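import Mathlib
import Groth.Agent.Lib.Helper18.Sp.Bridge
import Groth.Agent.Lib.Helper18.Sp.PushCap
import Groth.Agent.Lib.Helper18.Push.SubPush
import Groth.Agent.Lib.Helper18.Bivar.Envelope

/-!
# Specialization of cycles commutes with proper push-forward
-/

set_option autoImplicit false
set_option linter.style.haveILetI false
set_option linter.unusedSectionVars false
universe u
open AlgebraicGeometry CategoryTheory Limits IsLocalRing Classical

namespace Groth.Agent.Lib.Helper18.SpPush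

open Groth.Agent.Lib.Helper18.SpBase Groth.Agent.Lib.Helper18.P1Core
  Groth.Agent.Lib.Helper18.SpBridge Groth.Agent.Lib.Helper18.CycDiv

variable {R : Type u} [CommRing R] [IsDomain R] [IsDiscreteValuationRing R]

section single

variable {X : Scheme.{u}} (a : X ⟶ S R) [LocallyOfFiniteType a]
instance quasiCompact_fiberι (t : S R) : QuasiCompact (a.fiberι t) :=
  inferInstanceAs (QuasiCompact (pullback.fst a ((S R).fromSpecResidueField t)))

/-- extension by zero of a cycle on the generic fibre -/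
noncomputable def extCycle (α : AlgebraicCycle (a.fiber (ηPt R)) ℤ) : AlgebraicCycle X ℤ where
  toFun := ext a α
  supportWithinDomain' := Set.subset_univ _
  supportLocallyFiniteWithinDomain' := fun x _ => by
    obtain ⟨_, ⟨U, hU : IsAffineOpen U, rfl⟩, hxU, -⟩ :=
      X.isBasis_affineOpens.exists_subset_of_mem_open (Set.mem_univ x) isOpen_univ
    have hc : IsCompact ((a.fiberι (ηPt R)) ⁻¹ᵁ U : Set (a.fiber (ηPt R))) :=
      QuasiCompact.isCompact_preimage (f := a.fiberι (ηPt R)) _ U.isOpen hU.isCompact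
    have hI := α.locallyFiniteSupport.finite_inter_support_of_isCompact hc
    refine ⟨U, U.isOpen.mem_nhds hxU, (hI.image (a.fiberι (ηPt R))).subset ?_⟩
    rintro ξ ⟨hξU, hξ⟩
    have hr : ξ ∈ Set.range (a.fiberι (ηPt R)) := by
      by_contra hn
      exact hξ (ext_of_notMem a α ξ hn)
    obtain ⟨ζ, rfl⟩ := hr
    refine ⟨ζ, ⟨hξU, ?_⟩, rfl⟩
    have : ext a α (a.fiberι (ηPt R) ζ) ≠ 0 := hξ
    rwa [ext_fiberι] at this

@[simp] theorem extCycle_apply (α : AlgebraicCycle (a.fiber (ηPt R)) ℤ) (ξ : X) :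
    extCycle a α ξ = ext a α ξ := rfl

theorem ordSum_eq_finsum_divFun (r : ℤ) (c : X → ℤ)
    (hc : ∀ ξ, c ξ ≠ 0 → a ξ = ηPt R ∧ δX a ξ = r + 1)
    (G' : (ξ : X) → X.residueField ξ)
    (hG' : ∀ ξ, a ξ = ηPt R → G' ξ = (X.residue ξ).hom (ϖ a ξ)) (x : X) :
    (if δX a x = r then ordSum (δX a) c x (ϖ a x) else 0) =
      ∑ᶠ ξ, c ξ * Cyc.divFun (δX a) ξ (G' ξ) x := by
  by_cases hx : δX a x = r
  · rw [if_pos hx]
    unfold ordSum
    rw [finsum_mem_def]
    apply finsum_congr
    intro ξ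
    rw [Set.indicator_apply]
    by_cases h : ξ ∈ {ξ : X | ξ ⤳ x ∧ δX a x + 1 = δX a ξ}
    · rw [if_pos h]
      by_cases hcξ : c ξ = 0
      · rw [hcξ, zero_mul, zero_mul]
      · congr 1
        have hh : ξ ⤳ x ∧ δX a x + 1 = δX a ξ := h
        unfold Cyc.divFun ordG
        rw [dif_pos hh, dif_pos hh.1, specMap_ϖ, hG' ξ (hc ξ hcξ).1]
    · rw [if_neg h]
      have hh : ¬ (ξ ⤳ x ∧ δX a x + 1 = δX a ξ) := h
      unfold Cyc.divFun
      rw [dif_neg hh, mul_zero]
  · rw [if_neg hx]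
    symm
    apply finsum_eq_zero_of_forall_eq_zero
    intro ξ
    by_cases hcξ : c ξ = 0
    · rw [hcξ, zero_mul]
    · have h1 := (hc ξ hcξ).2
      unfold Cyc.divFun
      rw [dif_neg, mul_zero]
      rintro ⟨-, h2⟩
      apply hx
      omega

end single

section fib

variable {X Y : Scheme.{u}} (b : Y ⟶ S R) (f : X ⟶ Y)

/-- the induced morphism of fibres -/
noncomputable abbrev fibMap (t : S R) : (f ≫ b).fiber t ⟶ b.fiber t :=
  pullback.map (f ≫ b) ((S R).fromSpecResidueField t) b ((S R).fromSpecResidueField t) f (𝟙 _)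
    (𝟙 _) (Category.comp_id _) ((Category.comp_id _).trans (Category.id_comp _).symm)

theorem fibMap_fiberι (t : S R) : fibMap b f t ≫ b.fiberι t = (f ≫ b).fiberι t ≫ f :=
  pullback.lift_fst _ _ _

theorem fibMap_fiberι_apply (t : S R) (z : (f ≫ b).fiber t) :
    b.fiberι t (fibMap b f t z) = f ((f ≫ b).fiberι t z) := by
  have := congrArg (fun F : (f ≫ b).fiber t ⟶ Y => F z) (fibMap_fiberι b f t)
  exact this

theorem image_preimage_fibMap (t : S R) (z' : b.fiber t) :
    (f ≫ b).fiberι t '' (fibMap b f t ⁻¹' {z'}) = f ⁻¹' {b.fiberι t z'} := by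
  ext x
  constructor
  · rintro ⟨z, hz, rfl⟩
    show f _ = _
    rw [← fibMap_fiberι_apply, show fibMap b f t z = z' from hz]
  · intro hx
    have hx' : f x = b.fiberι t z' := hx
    have hr : x ∈ Set.range ((f ≫ b).fiberι t) := by
      rw [Scheme.Hom.range_fiberι]
      show (f ≫ b) x = t
      rw [Scheme.Hom.comp_apply, hx']
      have := Scheme.Hom.range_fiberι b t
      have h2 : b.fiberι t z' ∈ Set.range (b.fiberι t) := ⟨z', rfl⟩
      rw [this] at h2
      exact h2
    obtain ⟨z, rfl⟩ := hr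
    refine ⟨z, ?_, rfl⟩
    show fibMap b f t z = z'
    apply (b.fiberι t).isEmbedding.injective
    rw [fibMap_fiberι_apply, hx']

theorem finsum_fibMap (t : S R) (z' : b.fiber t) (c : (f ≫ b).fiber t → ℤ) (c' : X → ℤ)
    (h : ∀ z, c' ((f ≫ b).fiberι t z) = c z) :
    ∑ᶠ z ∈ fibMap b f t ⁻¹' {z'}, c z = ∑ᶠ x ∈ f ⁻¹' {b.fiberι t z'}, c' x := by
  rw [← image_preimage_fibMap,
    finsum_mem_image (((f ≫ b).fiberι t).isEmbedding.injective.injOn)]
  exact finsum_mem_congr rfl fun z _ => (h z).symm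

theorem residueDegree_fibMap (t : S R) (z : (f ≫ b).fiber t) :
    (fibMap b f t).residueDegree z = f.residueDegree ((f ≫ b).fiberι t z) :=
  Groth.Agent.Lib.Helper18.Push.residueDegree_square ((f ≫ b).fiberι t) (b.fiberι t) f
    (fibMap b f t) (fibMap_fiberι b f t) z
    (Groth.Agent.Lib.Helper24.FibreDim.residueFieldMap_bijective_of_surjectiveOnStalks _ _).2
    (Groth.Agent.Lib.Helper24.FibreDim.residueFieldMap_bijective_of_surjectiveOnStalks _ _).2

variable [LocallyOfFiniteType b] [LocallyOfFiniteType (f ≫ b)]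

theorem mapCoeff_fibMap (t : S R) (δXt : ↥((f ≫ b).fiber t) → ℤ) (δYt : ↥(b.fiber t) → ℤ)
    (hX : Cyc.DeltaCompat ((f ≫ b).fiberToSpecResidueField t) δXt (fun _ => 0))
    (hY : Cyc.DeltaCompat (b.fiberToSpecResidueField t) δYt (fun _ => 0))
    (z : (f ≫ b).fiber t) :
    AlgebraicCycle.mapCoeff (fibMap b f t) δXt δYt z =
      AlgebraicCycle.mapCoeff f (δX (f ≫ b)) (δX b) ((f ≫ b).fiberι t z) := by
  unfold AlgebraicCycle.mapCoeff
  rw [residueDegree_fibMap]
  have h1 := δX_fiberι (f ≫ b) t δXt hX z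
  have h2 := δX_fiberι b t δYt hY (fibMap b f t z)
  rw [fibMap_fiberι_apply] at h2
  have hiff : δXt z = δYt ((fibMap b f t) z) ↔
      δX (f ≫ b) ((f ≫ b).fiberι t z) = δX b (f ((f ≫ b).fiberι t z)) := by
    rw [h1, h2]
    constructor
    · intro h; rw [h]
    · intro h; linarith
  by_cases h : δXt z = δYt ((fibMap b f t) z)
  · rw [if_pos h, if_pos (hiff.1 h)]
  · rw [if_neg h, if_neg (fun h' => h (hiff.2 h'))]


theorem ϖ_comp' (x : X) : ϖ (f ≫ b) x = (f.stalkMap x).hom (ϖ b (f x)) := by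
  unfold ϖ
  exact (Scheme.Hom.germ_stalkMap_apply f ⊤ x trivial (πX b)).symm

theorem residueFieldMap_residue_ϖ (ξ : X) :
    (f.residueFieldMap ξ).hom ((Y.residue (f ξ)).hom (ϖ b (f ξ))) =
      (X.residue ξ).hom (ϖ (f ≫ b) ξ) := by
  rw [ϖ_comp']
  have h2 := congrArg (fun φ => φ.hom (ϖ b (f ξ))) (Scheme.residue_residueFieldMap f ξ)
  simpa using h2

end fib

end Groth.Agent.Lib.Helper18.SpPush
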