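import Mathlib
import Groth.Agent.Lib.Helper18.Sp.Bridge
import Groth.Agent.Lib.Helper18.Push.BCKer

/-!
# The two fibres of a scheme over a discrete valuation ring
-/

set_option autoImplicit false
set_option linter.style.haveILetI false
set_option linter.unusedSectionVars false
universe u
open AlgebraicGeometry CategoryTheory Limits IsLocalRing Classical

namespace Groth.Agent.Lib.Helper18.SpFibre

open Groth.Agent.Lib.Helper18.SpBase Groth.Agent.Lib.Helper18.SpBridge
  Groth.Agent.Lib.Helper18.Push

theorem isField_stalk_spec (K : Type u) [Field K] (p : Spec (CommRingCat.of K)) :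
    IsField ((Spec (CommRingCat.of K)).presheaf.stalk p) := by
  haveI : Subsingleton (Spec (CommRingCat.of K)) :=
    inferInstanceAs (Subsingleton (PrimeSpectrum K))
  have hp : p = genericPoint (Spec (CommRingCat.of K)) := Subsingleton.elim _ _
  rw [hp]
  exact Field.toIsField ((Spec (CommRingCat.of K)).functionField)

/-- the kernel of the stalk map of `Spec κ(y) ⟶ Y` is the maximal ideal -/
theorem ker_stalkMapOfEq_fromSpecResidueField (Y : Scheme.{u}) (y : Y)
    (p : Spec (Y.residueField y)) (y' : Y) (h : Y.fromSpecResidueField y p = y') :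
    RingHom.ker (stalkMapOfEq (Y.fromSpecResidueField y) p y' h) =
      maximalIdeal (Y.presheaf.stalk y') := by
  have hf : IsField ((Spec (Y.residueField y)).presheaf.stalk p) :=
    isField_stalk_spec (IsLocalRing.ResidueField (Y.presheaf.stalk y)) p
  apply le_antisymm
  · intro t ht
    rw [mem_maximalIdeal, mem_nonunits_iff]
    intro hu
    rw [RingHom.mem_ker] at ht
    have := hu.map (stalkMapOfEq (Y.fromSpecResidueField y) p y' h)
    rw [ht] at this
    exact not_isUnit_zero this
  · intro t ht
    rw [RingHom.mem_ker]
    by_contra hne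
    letI := hf.toField
    have hu : IsUnit (stalkMapOfEq (Y.fromSpecResidueField y) p y' h t) := Ne.isUnit hne
    have := isUnit_of_map_unit (stalkMapOfEq (Y.fromSpecResidueField y) p y' h) t hu
    exact (mem_maximalIdeal _).1 ht this

variable {R : Type u} [CommRing R] [IsDomain R] [IsDiscreteValuationRing R]
  {X : Scheme.{u}} (a : X ⟶ S R)

instance isOpenImmersion_fromSpecResidueField_η :
    IsOpenImmersion ((S R).fromSpecResidueField (ηPt R)) := by
  rw [ηPt_eq]
  exact Groth.Agent.Lib.Helper4.DvrGen.isOpenImmersion_fromSpecResidueField_bot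

instance isOpenImmersion_fiberι_η : IsOpenImmersion (a.fiberι (ηPt R)) := by
  unfold Scheme.Hom.fiberι
  exact MorphismProperty.pullback_fst (P := @IsOpenImmersion) a _ inferInstance

instance isClosedImmersion_fromSpecResidueField_s :
    IsClosedImmersion ((S R).fromSpecResidueField (sPt R)) := by
  rw [← isClosed_singleton_iff_isClosedImmersion]
  exact (PrimeSpectrum.isClosed_singleton_iff_isMaximal _).2
    (inferInstanceAs (maximalIdeal R).IsMaximal)

set_option backward.isDefEq.respectTransparency.types false in
instance isClosedImmersion_fiberι_s : IsClosedImmersion (a.fiberι (sPt R)) := by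
  unfold Scheme.Hom.fiberι
  exact MorphismProperty.pullback_fst (P := @IsClosedImmersion) a _
    (isClosedImmersion_fromSpecResidueField_s (R := R))

theorem ker_stalkMap_fiberι_s (x : ↥(a.fiber (sPt R))) :
    RingHom.ker ((a.fiberι (sPt R)).stalkMap x).hom = Ideal.span {ϖ a (a.fiberι (sPt R) x)} := by
  have sq : IsPullback (a.fiberι (sPt R)) (a.fiberToSpecResidueField (sPt R)) a
      ((S R).fromSpecResidueField (sPt R)) := IsPullback.of_hasPullback _ _
  have hc := sq_apply sq x
  have hax : a (a.fiberι (sPt R) x) = sPt R := Groth.Agent.Lib.Helper18.AffFib.f_g sq x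
  have h1 := ker_stalkMapOfEq_fromSpecResidueField (S R) (sPt R)
    (a.fiberToSpecResidueField (sPt R) x) _ hc
  apply le_antisymm
  · refine (ker_stalkMap_le sq x hc).trans ?_
    rw [h1, map_maximalIdeal_eq a _ hax]
  · refine le_trans ?_ (map_ker_le_ker_stalkMap sq x hc)
    rw [h1, map_maximalIdeal_eq a _ hax]

end Groth.Agent.Lib.Helper18.SpFibre
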