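import Mathlib
import Groth.Prelude.Def_Cyc
import Groth.Agent.Lib.Helper18.Cyc.PullRat
import Groth.Agent.Lib.Helper18.Push.DegZero

/-!
# Flat pull-back of the divisor of a family of functions on a cycle
-/

set_option autoImplicit false
set_option linter.style.haveILetI false
universe u
open AlgebraicGeometry CategoryTheory IsLocalRing

namespace Groth.Agent.Lib.Helper18.CycDiv

open Groth.Agent.Lib.Helper18.CycPull

variable {X' X : Scheme.{u}}

/-- the support of a cycle is a locally finite family of points -/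
theorem locallyFinite_support (c : AlgebraicCycle X ℤ) (y : X) :
    ∃ V : Set X, IsOpen V ∧ y ∈ V ∧
      {i : Function.support c | (closure {i.1} ∩ V).Nonempty}.Finite := by
  obtain ⟨t, ht, hfin⟩ := c.supportLocallyFiniteWithinDomain' y trivial
  obtain ⟨V, hVt, hVo, hyV⟩ := mem_nhds_iff.1 ht
  refine ⟨V, hVo, hyV, ?_⟩
  refine Set.Finite.subset (hfin.preimage (Subtype.val_injective.injOn)) ?_
  rintro i ⟨z, hz, hzV⟩
  have hspec : i.1 ⤳ z := specializes_iff_mem_closure.2 hz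
  exact ⟨hVt (hspec.mem_open hVo hzV), i.2⟩

/-- `Σ_ξ' (f^* c)(ξ') div_ξ'(f^* G) = f^* (Σ_ζ c(ζ) div_ζ(G))`, pointwise, for a family of nonzero
functions `G ζ ∈ κ(ζ)` on the points of `X`. -/
theorem pull_divCap (f : X' ⟶ X) [Flat f] [LocallyOfFiniteType f] [IsLocallyNoetherian X']
    [IsLocallyNoetherian X] (δ' : X' → ℤ) (δ : X → ℤ) (hdim' : Cyc.IsDimFun X' δ')
    (hdim : Cyc.IsDimFun X δ) (e : ℕ) (he : Cyc.HasRelDim f e) (hδ : Cyc.DeltaCompat f δ' δ)
    (c : AlgebraicCycle X ℤ) (G : (ζ : X) → X.residueField ζ) (hG0 : ∀ ζ, G ζ ≠ 0) (x' : X') :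
    ∑ᶠ ξ' : X', Cyc.pullFun f δ' δ e c ξ' *
        Cyc.divFun δ' ξ' ((f.residueFieldMap ξ').hom (G (f ξ'))) x' =
      Cyc.pullFun f δ' δ e (fun x => ∑ᶠ ζ : X, c ζ * Cyc.divFun δ ζ (G ζ) x) x' := by
  classical
  let ℓ : X' → ℤ := fun ξ' => ((Module.length (X'.presheaf.stalk ξ') (X'.presheaf.stalk ξ' ⧸
    Ideal.map (f.stalkMap ξ').hom (maximalIdeal (X.presheaf.stalk (f ξ'))))).toNat : ℤ)
  let D : X' → ℤ := fun ξ' => Cyc.divFun δ' ξ' ((f.residueFieldMap ξ').hom (G (f ξ'))) x'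
  let T : X' → ℤ := fun ξ' => Cyc.pullFun f δ' δ e c ξ' * D ξ'
  have hT : ∀ ξ', T ξ' = (if δ' ξ' = δ (f ξ') + e then c (f ξ') * ℓ ξ' else 0) * D ξ' :=
    fun ξ' => rfl
  -- finiteness of the support
  have hfin : (Function.support T).Finite := by
    obtain ⟨U, hUo, hxU, hfinU⟩ := locallyFinite_fibIdx f (fun i : Function.support c => i.1)
      (locallyFinite_support c) x'
    refine (hfinU.image (fun j => j.2.1)).subset ?_
    intro ξ' hξ'
    have h0 : T ξ' ≠ 0 := hξ'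
    rw [hT] at h0
    have h1 : (if δ' ξ' = δ (f ξ') + e then c (f ξ') * ℓ ξ' else 0) ≠ 0 := left_ne_zero_of_mul h0
    have h2 : D ξ' ≠ 0 := right_ne_zero_of_mul h0
    have hcond : δ' ξ' = δ (f ξ') + e := by
      by_contra hn
      rw [if_neg hn] at h1
      exact h1 rfl
    rw [if_pos hcond] at h1
    have hc : c (f ξ') ≠ 0 := left_ne_zero_of_mul h1
    have hmax := isMax_fibre_of_delta f δ' δ hdim' e he hδ ξ' hcond
    have hspec : ξ' ⤳ x' := specializes_of_divFun_ne_zero δ' _ _ x' h2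
    refine ⟨⟨⟨f ξ', hc⟩, ⟨ξ', rfl, hmax⟩⟩, ?_, rfl⟩
    exact ⟨x', specializes_iff_mem_closure.1 hspec, hxU⟩
  show ∑ᶠ ξ' : X', T ξ' = _
  rw [← Groth.Agent.Lib.Helper18.Push.finsum_fiberwise f T hfin]
  -- the inner sums
  have hinner : ∀ ζ : X, ∑ᶠ ξ' ∈ f ⁻¹' {ζ}, T ξ' =
      c ζ * Cyc.pullFun f δ' δ e (Cyc.divFun δ ζ (G ζ)) x' := by
    intro ζ
    rw [pullFun_divFun_gen f δ' δ hdim' hdim e he hδ ζ (G ζ) (hG0 ζ) x', mul_finsum]
    have h1 : ∀ ξ' : FibIdx f ζ, c ζ * (((Module.length (X'.presheaf.stalk ξ'.1)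
        (X'.presheaf.stalk ξ'.1 ⧸ Ideal.map (f.stalkMap ξ'.1).hom
          (maximalIdeal (X.presheaf.stalk (f ξ'.1))))).toNat : ℤ) *
        Cyc.divFun δ' ξ'.1
          ((f.residueFieldMap ξ'.1).hom ((X.residueFieldCongr ξ'.2.1.symm).hom (G ζ))) x') =
        (fun ξ' : X' => c (f ξ') * (ℓ ξ' * D ξ')) ξ'.1 := by
      rintro ⟨ξ', h1, h2⟩
      subst h1
      show _ = c (f ξ') * (ℓ ξ' * D ξ')
      congr 2
    rw [finsum_congr h1,
      finsum_subtype_eq_finsum_cond (f := fun ξ' : X' => c (f ξ') * (ℓ ξ' * D ξ'))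
        (fun ξ' : X' => f ξ' = ζ ∧ ∀ z : X', f z = ζ → z ⤳ ξ' → z = ξ')]
    apply finsum_congr
    intro ξ'
    rw [finsum_eq_if, finsum_eq_if]
    by_cases hξ : f ξ' = ζ
    · rw [if_pos (show ξ' ∈ f ⁻¹' {ζ} from hξ)]
      by_cases hmax : ∀ z : X', f z = ζ → z ⤳ ξ' → z = ξ'
      · rw [if_pos ⟨hξ, hmax⟩, hT]
        have := delta_fibIdx f δ' δ e he hδ (ξ := ζ) ⟨ξ', hξ, hmax⟩
        rw [if_pos (by rw [hξ]; exact this), mul_assoc]
      · rw [if_neg (fun h => hmax h.2), hT]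
        rw [if_neg, zero_mul]
        intro hcond
        apply hmax
        have := isMax_fibre_of_delta f δ' δ hdim' e he hδ ξ' hcond
        intro z hz
        exact this z (hz.trans hξ.symm)
    · rw [if_neg (show ξ' ∉ f ⁻¹' {ζ} from hξ), if_neg (fun h => hξ h.1)]
  rw [finsum_congr hinner]
  unfold Cyc.pullFun
  by_cases hcond : δ' x' = δ (f x') + e
  · simp only [if_pos hcond]
    rw [finsum_mul]
    apply finsum_congr
    intro ζ
    rw [mul_assoc]
  · simp only [if_neg hcond, mul_zero]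
    exact finsum_zero

end Groth.Agent.Lib.Helper18.CycDiv
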