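import Mathlib
import Groth.Agent.Lib.Helper18.Sp.FibMap
import Groth.Agent.Lib.Helper18.Sp.PullCap
import Groth.Agent.Lib.Helper18.Push.BCKer

/-!
# Specialization of cycles commutes with flat pull-back
-/

set_option autoImplicit false
set_option linter.style.haveILetI false
set_option linter.unusedSectionVars false
universe u
open AlgebraicGeometry CategoryTheory Limits IsLocalRing Classical

namespace Groth.Agent.Lib.Helper18.SpPush

open Groth.Agent.Lib.Helper18.SpBase Groth.Agent.Lib.Helper18.P1Core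
  Groth.Agent.Lib.Helper18.SpBridge Groth.Agent.Lib.Helper18.CycDiv

variable {R : Type u} [CommRing R] [IsDomain R] [IsDiscreteValuationRing R]
  {X' X : Scheme.{u}} (b : X ⟶ S R) (f : X' ⟶ X)

theorem fibMap_snd (t : S R) :
    fibMap b f t ≫ pullback.snd b ((S R).fromSpecResidueField t) =
      pullback.snd (f ≫ b) ((S R).fromSpecResidueField t) :=
  (pullback.lift_snd _ _ _).trans (Category.comp_id _)

/-- the fibre of the source is the base change of the fibre of the target -/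
theorem isPullback_fibMap (t : S R) :
    IsPullback ((f ≫ b).fiberι t) (fibMap b f t) f (b.fiberι t) := by
  have hout : IsPullback (fibMap b f t ≫ pullback.snd b ((S R).fromSpecResidueField t))
      ((f ≫ b).fiberι t) ((S R).fromSpecResidueField t) (f ≫ b) := by
    rw [fibMap_snd]
    exact (IsPullback.of_hasPullback (f ≫ b) ((S R).fromSpecResidueField t)).flip
  have hright : IsPullback (pullback.snd b ((S R).fromSpecResidueField t)) (b.fiberι t)
      ((S R).fromSpecResidueField t) b :=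
    (IsPullback.of_hasPullback b ((S R).fromSpecResidueField t)).flip
  exact (IsPullback.of_right hout (fibMap_fiberι b f t) hright).flip

theorem fibLen_fibMap (t : S R) (z : (f ≫ b).fiber t) :
    Module.length (((f ≫ b).fiber t).presheaf.stalk z) (((f ≫ b).fiber t).presheaf.stalk z ⧸
      Ideal.map ((fibMap b f t).stalkMap z).hom
        (maximalIdeal ((b.fiber t).presheaf.stalk (fibMap b f t z)))) =
    Module.length (X'.presheaf.stalk ((f ≫ b).fiberι t z))
      (X'.presheaf.stalk ((f ≫ b).fiberι t z) ⧸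
        Ideal.map (f.stalkMap ((f ≫ b).fiberι t z)).hom
          (maximalIdeal (X.presheaf.stalk (f ((f ≫ b).fiberι t z))))) :=
  Groth.Agent.Lib.Helper18.Push.fibLen_eq_of_isPullback (isPullback_fibMap b f t) z

variable [LocallyOfFiniteType b] [LocallyOfFiniteType (f ≫ b)]

theorem pullFun_fibMap (t : S R) (δX't : ↥((f ≫ b).fiber t) → ℤ) (δXt : ↥(b.fiber t) → ℤ)
    (hX' : Cyc.DeltaCompat ((f ≫ b).fiberToSpecResidueField t) δX't (fun _ => 0))
    (hX : Cyc.DeltaCompat (b.fiberToSpecResidueField t) δXt (fun _ => 0)) (e : ℤ)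
    (c : X → ℤ) (z : (f ≫ b).fiber t) :
    Cyc.pullFun (fibMap b f t) δX't δXt e (fun w => c (b.fiberι t w)) z =
      Cyc.pullFun f (δX (f ≫ b)) (δX b) e c ((f ≫ b).fiberι t z) := by
  unfold Cyc.pullFun
  have h1 := δX_fiberι (f ≫ b) t δX't hX' z
  have h2 := δX_fiberι b t δXt hX (fibMap b f t z)
  rw [fibMap_fiberι_apply] at h2
  have hiff : δX't z = δXt ((fibMap b f t) z) + e ↔
      δX (f ≫ b) ((f ≫ b).fiberι t z) = δX b (f ((f ≫ b).fiberι t z)) + e := by
    rw [h1, h2]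
    constructor
    · intro h; rw [h]; ring
    · intro h; linarith
  by_cases h : δX't z = δXt ((fibMap b f t) z) + e
  · rw [if_pos h, if_pos (hiff.1 h), fibLen_fibMap]
    show c (b.fiberι t (fibMap b f t z)) * _ = _
    rw [fibMap_fiberι_apply]
  · rw [if_neg h, if_neg (fun h' => h (hiff.2 h'))]

end Groth.Agent.Lib.Helper18.SpPush

namespace Groth.Agent.Lib.Helper18.SpPush

open Groth.Agent.Lib.Helper18.SpBase Groth.Agent.Lib.Helper18.P1Core
  Groth.Agent.Lib.Helper18.SpBridge Groth.Agent.Lib.Helper18.CycDiv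

variable {R : Type u} [CommRing R] [IsDomain R] [IsDiscreteValuationRing R]
  {X' X : Scheme.{u}} (b : X ⟶ S R) [LocallyOfFiniteType b] (f : X' ⟶ X) [Flat f]
  [LocallyOfFiniteType f]

theorem main1915 (e : ℕ) (he : Cyc.HasRelDim f e)
    (δX'η : ↥((f ≫ b).fiber (ηPt R)) → ℤ) (δX's : ↥((f ≫ b).fiber (sPt R)) → ℤ)
    (δXη : ↥(b.fiber (ηPt R)) → ℤ) (δXs : ↥(b.fiber (sPt R)) → ℤ)
    (h1 : Cyc.DeltaCompat ((f ≫ b).fiberToSpecResidueField (ηPt R)) δX'η (fun _ => 0))
    (h2 : Cyc.DeltaCompat ((f ≫ b).fiberToSpecResidueField (sPt R)) δX's (fun _ => 0))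
    (h3 : Cyc.DeltaCompat (b.fiberToSpecResidueField (ηPt R)) δXη (fun _ => 0))
    (h4 : Cyc.DeltaCompat (b.fiberToSpecResidueField (sPt R)) δXs (fun _ => 0)) (r : ℤ)
    (α : AlgebraicCycle (b.fiber (ηPt R)) ℤ) (hα : α ∈ Cyc.Zk (b.fiber (ηPt R)) δXη r) :
    Cyc.spFun (f ≫ b) (ηPt R) (sPt R) δX'η δX's (r + e)
        (Cyc.pullFun (fibMap b f (ηPt R)) δX'η δXη e ⇑α) =
      Cyc.pullFun (fibMap b f (sPt R)) δX's δXs e
        (Cyc.spFun b (ηPt R) (sPt R) δXη δXs r ⇑α) := by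
  have hXS' := isSetup_X (f ≫ b)
  have hXS := isSetup_X b
  haveI : IsLocallyNoetherian X' := hXS'.1
  haveI : IsLocallyNoetherian X := hXS.1
  have hδ : Cyc.DeltaCompat f (δX (f ≫ b)) (δX b) :=
    Groth.Agent.Lib.Helper18.BivarEnv.deltaCompat_cancel f b (δX (f ≫ b)) (δX b) (δS R)
      (deltaCompat_δX (f ≫ b)) (deltaCompat_δX b)
  set αC : AlgebraicCycle X ℤ := extCycle b α with hαCdef
  let G : (ζ : X) → X.residueField ζ := fun ζ =>
    if (X.residue ζ).hom (ϖ b ζ) ≠ 0 then (X.residue ζ).hom (ϖ b ζ) else 1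
  have hG0 : ∀ ζ, G ζ ≠ 0 := by
    intro ζ
    simp only [G]
    split_ifs with h
    · exact h
    · exact one_ne_zero
  have hGη : ∀ ζ, b ζ = ηPt R → G ζ = (X.residue ζ).hom (ϖ b ζ) := by
    intro ζ h
    have hu : IsUnit (ϖ b ζ) := (isUnit_ϖ_iff b ζ).2 h
    have hne : (X.residue ζ).hom (ϖ b ζ) ≠ 0 := fun h0 =>
      (mem_maximalIdeal _).1 ((IsLocalRing.residue_eq_zero_iff _).1 h0) hu
    simp only [G]
    rw [if_pos hne]
  -- the support of `αC`
  have hαC : ∀ ζ, αC ζ ≠ 0 → b ζ = ηPt R ∧ δX b ζ = r + 1 := by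
    intro ζ hζ
    have hr : ζ ∈ Set.range (b.fiberι (ηPt R)) := by
      by_contra hn
      exact hζ (ext_of_notMem b α ζ hn)
    obtain ⟨w, rfl⟩ := hr
    refine ⟨a_fiberι b _ w, ?_⟩
    rw [δX_fiberι_η b δXη h3 w]
    have h1 : α w ≠ 0 := by rwa [hαCdef, extCycle_apply, ext_fiberι] at hζ
    have h2 : δXη w = r := by
      by_contra hn
      exact h1 (hα w hn)
    omega
  -- the pull-back on the generic fibre
  have hA : ext (f ≫ b) (Cyc.pullFun (fibMap b f (ηPt R)) δX'η δXη e ⇑α) =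
      Cyc.pullFun f (δX (f ≫ b)) (δX b) e ⇑αC := by
    funext ξ'
    by_cases hξ' : (f ≫ b) ξ' = ηPt R
    · have hr : ξ' ∈ Set.range ((f ≫ b).fiberι (ηPt R)) := by
        rw [range_fiberι]
        exact hξ'
      obtain ⟨z, rfl⟩ := hr
      rw [ext_fiberι, ← pullFun_fibMap b f (ηPt R) δX'η δXη h1 h3 e ⇑αC z]
      congr 1
      funext w
      exact (ext_fiberι b α w).symm
    · rw [ext_of_ne (f ≫ b) _ ξ' hξ']
      unfold Cyc.pullFun
      have h0 : αC (f ξ') = 0 := ext_of_ne b α (f ξ') hξ'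
      rw [h0, zero_mul, ite_self]
  -- the support of the pull-back
  have hPC : ∀ ξ', Cyc.pullFun f (δX (f ≫ b)) (δX b) e ⇑αC ξ' ≠ 0 →
      (f ≫ b) ξ' = ηPt R ∧ δX (f ≫ b) ξ' = r + e + 1 := by
    intro ξ' hne
    unfold Cyc.pullFun at hne
    split_ifs at hne with hc
    · have hh := hαC (f ξ') (left_ne_zero_of_mul hne)
      exact ⟨hh.1, by rw [hc, hh.2]; ring⟩
    · exact absurd rfl hne
  funext x'
  rw [spFun_eq (f ≫ b) δX'η δX's h1 h2 (r + e) _ x', ← δX_fiberι_s (f ≫ b) δX's h2 x', hA,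
    ordSum_eq_finsum_divFun (f ≫ b) (r + e) _ hPC
      (fun ξ' => (f.residueFieldMap ξ').hom (G (f ξ')))
      (fun ξ' hξ' => by rw [hGη (f ξ') hξ', residueFieldMap_residue_ϖ])
      ((f ≫ b).fiberι (sPt R) x'),
    pull_divCap f (δX (f ≫ b)) (δX b) hXS'.2.2 hXS.2.2 e he hδ αC G hG0]
  have hsp : Cyc.spFun b (ηPt R) (sPt R) δXη δXs r ⇑α =
      fun w => (fun x => if δX b x = r then ordSum (δX b) (⇑αC) x (ϖ b x) else 0)
        (b.fiberι (sPt R) w) := by
    funext w
    rw [spFun_eq b δXη δXs h3 h4 r _ w, ← δX_fiberι_s b δXs h4 w]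
    rfl
  rw [hsp, pullFun_fibMap b f (sPt R) δX's δXs h2 h4 e
    (fun x => if δX b x = r then ordSum (δX b) (⇑αC) x (ϖ b x) else 0) x']
  congr 1
  funext x
  exact (ordSum_eq_finsum_divFun b r (⇑αC) hαC G hGη x).symm

end Groth.Agent.Lib.Helper18.SpPush
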