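import Mathlib
import Groth.Agent.Lib.Helper18.Sp.FibMap

/-!
# Specialization of cycles commutes with proper push-forward: the main theorem
-/

set_option autoImplicit false
set_option linter.style.haveILetI false
set_option linter.unusedSectionVars false
universe u
open AlgebraicGeometry CategoryTheory Limits IsLocalRing Classical

namespace Groth.Agent.Lib.Helper18.SpPush

open Groth.Agent.Lib.Helper18.SpBase Groth.Agent.Lib.Helper18.P1Core
  Groth.Agent.Lib.Helper18.SpBridge Groth.Agent.Lib.Helper18.CycDiv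

variable {R : Type u} [CommRing R] [IsDomain R] [IsDiscreteValuationRing R]
  {X Y : Scheme.{u}} (b : Y ⟶ S R) [LocallyOfFiniteType b] (f : X ⟶ Y) [IsProper f]

theorem main1912 (δXη : ↥((f ≫ b).fiber (ηPt R)) → ℤ) (δXs : ↥((f ≫ b).fiber (sPt R)) → ℤ)
    (δYη : ↥(b.fiber (ηPt R)) → ℤ) (δYs : ↥(b.fiber (sPt R)) → ℤ)
    (hXη : Cyc.DeltaCompat ((f ≫ b).fiberToSpecResidueField (ηPt R)) δXη (fun _ => 0))
    (hXs : Cyc.DeltaCompat ((f ≫ b).fiberToSpecResidueField (sPt R)) δXs (fun _ => 0))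
    (hYη : Cyc.DeltaCompat (b.fiberToSpecResidueField (ηPt R)) δYη (fun _ => 0))
    (hYs : Cyc.DeltaCompat (b.fiberToSpecResidueField (sPt R)) δYs (fun _ => 0))
    [QuasiCompact (fibMap b f (ηPt R))] [QuasiCompact (fibMap b f (sPt R))] (r : ℤ)
    (α : AlgebraicCycle ((f ≫ b).fiber (ηPt R)) ℤ)
    (hα : α ∈ Cyc.Zk ((f ≫ b).fiber (ηPt R)) δXη r)
    (β : AlgebraicCycle ((f ≫ b).fiber (sPt R)) ℤ)
    (hβ : ⇑β = Cyc.spFun (f ≫ b) (ηPt R) (sPt R) δXη δXs r ⇑α) :
    Cyc.spFun b (ηPt R) (sPt R) δYη δYs r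
        ⇑(AlgebraicCycle.map (fibMap b f (ηPt R)) δXη δYη α) =
      ⇑(AlgebraicCycle.map (fibMap b f (sPt R)) δXs δYs β) := by
  have hXS := isSetup_X (f ≫ b)
  have hYS := isSetup_X b
  haveI : IsLocallyNoetherian X := hXS.1
  haveI : IsLocallyNoetherian Y := hYS.1
  have hδ : Cyc.DeltaCompat f (δX (f ≫ b)) (δX b) :=
    Groth.Agent.Lib.Helper18.BivarEnv.deltaCompat_cancel f b (δX (f ≫ b)) (δX b) (δS R)
      (deltaCompat_δX (f ≫ b)) (deltaCompat_δX b)
  set αC : AlgebraicCycle X ℤ := extCycle (f ≫ b) α with hαCdef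
  let G : (η' : Y) → Y.residueField η' := fun η' =>
    if (Y.residue η').hom (ϖ b η') ≠ 0 then (Y.residue η').hom (ϖ b η') else 1
  have hG0 : ∀ η', G η' ≠ 0 := by
    intro η'
    simp only [G]
    split_ifs with h
    · exact h
    · exact one_ne_zero
  have hGη : ∀ η', b η' = ηPt R → G η' = (Y.residue η').hom (ϖ b η') := by
    intro η' h
    have hu : IsUnit (ϖ b η') := (isUnit_ϖ_iff b η').2 h
    have hne : (Y.residue η').hom (ϖ b η') ≠ 0 := fun h0 =>
      (mem_maximalIdeal _).1 ((IsLocalRing.residue_eq_zero_iff _).1 h0) hu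
    simp only [G]
    rw [if_pos hne]
  -- the support of `αC`
  have hαC : ∀ ξ, αC ξ ≠ 0 → (f ≫ b) ξ = ηPt R ∧ δX (f ≫ b) ξ = r + 1 := by
    intro ξ hξ
    have hr : ξ ∈ Set.range ((f ≫ b).fiberι (ηPt R)) := by
      by_contra hn
      exact hξ (ext_of_notMem (f ≫ b) α ξ hn)
    obtain ⟨ζ, rfl⟩ := hr
    refine ⟨a_fiberι (f ≫ b) _ ζ, ?_⟩
    rw [δX_fiberι_η (f ≫ b) δXη hXη ζ]
    have h1 : α ζ ≠ 0 := by rwa [hαCdef, extCycle_apply, ext_fiberι] at hξ
    have h2 : δXη ζ = r := by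
      by_contra hn
      exact h1 (hα ζ hn)
    omega
  -- the push-forward on the generic fibre
  have hA : ∀ η', ext b ⇑(AlgebraicCycle.map (fibMap b f (ηPt R)) δXη δYη α) η' =
      (AlgebraicCycle.map f (δX (f ≫ b)) (δX b) αC) η' := by
    intro η'
    by_cases hη' : b η' = ηPt R
    · have hr : η' ∈ Set.range (b.fiberι (ηPt R)) := by
        rw [range_fiberι]
        exact hη'
      obtain ⟨ζ', rfl⟩ := hr
      rw [ext_fiberι]
      simp only [AlgebraicCycle.map, Function.locallyFinsupp.map_apply]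
      refine finsum_fibMap b f (ηPt R) ζ' _
        (fun x => αC x * ((AlgebraicCycle.mapCoeff f (δX (f ≫ b)) (δX b) x : ℕ) : ℤ)) (fun z => ?_)
      rw [mapCoeff_fibMap b f _ δXη δYη hXη hYη z, hαCdef, extCycle_apply, ext_fiberι]
    · rw [ext_of_ne b _ η' hη']
      symm
      simp only [AlgebraicCycle.map, Function.locallyFinsupp.map_apply]
      apply finsum_mem_eq_zero_of_forall_eq_zero
      intro ξ hξ
      have h1 : (f ≫ b) ξ ≠ ηPt R := by
        show b (f ξ) ≠ _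
        rw [show f ξ = η' from hξ]
        exact hη'
      rw [show αC ξ = ext (f ≫ b) α ξ from rfl, ext_of_ne (f ≫ b) α ξ h1, zero_mul]
  -- the support of the push-forward
  have hMC : ∀ η', (AlgebraicCycle.map f (δX (f ≫ b)) (δX b) αC) η' ≠ 0 →
      b η' = ηPt R ∧ δX b η' = r + 1 := by
    intro η' hne
    simp only [AlgebraicCycle.map, Function.locallyFinsupp.map_apply] at hne
    obtain ⟨ξ, hξ, hne'⟩ := exists_ne_zero_of_finsum_mem_ne_zero hne
    have h1 := hαC ξ (left_ne_zero_of_mul hne')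
    have h2 : AlgebraicCycle.mapCoeff f (δX (f ≫ b)) (δX b) ξ ≠ 0 := by
      intro h0
      apply hne'
      rw [h0]
      simp
    unfold AlgebraicCycle.mapCoeff at h2
    split_ifs at h2 with h3
    · have hξ' : f ξ = η' := hξ
      subst hξ'
      exact ⟨h1.1, by rw [← h3]; exact h1.2⟩
    · exact absurd rfl h2
  funext y
  rw [spFun_eq b δYη δYs hYη hYs r _ y, ← δX_fiberι_s b δYs hYs y, funext hA,
    ordSum_eq_finsum_divFun b r _ hMC G hGη (b.fiberι (sPt R) y)]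
  have hR : (AlgebraicCycle.map (fibMap b f (sPt R)) δXs δYs β) y =
      ∑ᶠ x ∈ fibMap b f (sPt R) ⁻¹' {y},
        β x * ((AlgebraicCycle.mapCoeff (fibMap b f (sPt R)) δXs δYs x : ℕ) : ℤ) := by
    simp only [AlgebraicCycle.map, Function.locallyFinsupp.map_apply]
  rw [hR]
  rw [finsum_fibMap b f (sPt R) y _
    (fun x => (if δX (f ≫ b) x = r then ordSum (δX (f ≫ b)) αC x (ϖ (f ≫ b) x) else 0) *
      ((AlgebraicCycle.mapCoeff f (δX (f ≫ b)) (δX b) x : ℕ) : ℤ))]
  · rw [← Groth.Agent.Lib.Helper18.Push.push_divCap f (δX (f ≫ b)) (δX b) hXS.2.2 hYS.2.2 hδ αC G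
      hG0 (b.fiberι (sPt R) y)]
    refine finsum_mem_congr rfl (fun x _ => ?_)
    congr 1
    symm
    exact ordSum_eq_finsum_divFun (f ≫ b) r αC hαC
      (fun ξ => (f.residueFieldMap ξ).hom (G (f ξ)))
      (fun ξ hξ => by rw [hGη (f ξ) hξ, residueFieldMap_residue_ϖ]) x
  · intro x
    rw [mapCoeff_fibMap b f _ δXs δYs hXs hYs x, hβ, spFun_eq (f ≫ b) δXη δXs hXη hXs r _ x,
      δX_fiberι_s (f ≫ b) δXs hXs x]
    rfl

end Groth.Agent.Lib.Helper18.SpPush
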