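import Mathlib
import Groth.Agent.Lib.Helper18.Sp.Fibre
import Groth.Agent.Lib.Helper18.Cyc.GysinSheaf
import Groth.Agent.Lib.Helper18.Cyc.PullSheaf
import Groth.Prelude.Def_FlatMod2

/-!
# Specialization of the cycle of a coherent module flat over a discrete valuation ring
-/

set_option autoImplicit false
set_option maxHeartbeats 1000000
set_option linter.style.haveILetI false
set_option linter.unusedSectionVars false
universe u
open AlgebraicGeometry CategoryTheory Limits IsLocalRing Classical Pointwise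

namespace Groth.Agent.Lib.Helper18.SpSheaf

open Groth.Agent.Lib.Helper18.SpBase Groth.Agent.Lib.Helper18.SpBridge
  Groth.Agent.Lib.Helper18.SpFibre Groth.Agent.Lib.Helper18.Push
  Groth.Agent.Lib.Helper18.P1Core Groth.Agent.Lib.Helper18.CycPull
  Groth.Agent.Lib.Helper18.GysinSheaf Groth.Agent.Lib.Helper13.StalkSpecLoc
  Groth.Agent.Lib.Helper18.StalkLoc

theorem length_quot_maximalIdeal (A : Type*) [CommRing A] [IsLocalRing A] :
    Module.length A (A ⧸ maximalIdeal A) = 1 := by
  rw [Module.length_eq_one_iff, isSimpleModule_iff_isCoatom]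
  exact Ideal.isMaximal_def.1 inferInstance

variable {R : Type u} [CommRing R] [IsDomain R] [IsDiscreteValuationRing R]
  {X : Scheme.{u}} (a : X ⟶ S R) [LocallyOfFiniteType a]
  (δη : ↥(a.fiber (ηPt R)) → ℤ) (δs : ↥(a.fiber (sPt R)) → ℤ)
  (hδη : Cyc.DeltaCompat (a.fiberToSpecResidueField (ηPt R)) δη (fun _ => 0))
  (hδs : Cyc.DeltaCompat (a.fiberToSpecResidueField (sPt R)) δs (fun _ => 0))
  (r : ℤ) (F : X.Modules) (hF : Coh.IsCoh F)

include hF in
theorem length_stalk_pullback_η (ζ : ↥(a.fiber (ηPt R))) :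
    Module.length ((a.fiber (ηPt R)).presheaf.stalk ζ)
      (((Scheme.Modules.pullback (a.fiberι (ηPt R))).obj F).presheaf.stalk ζ) =
    Module.length (X.presheaf.stalk (a.fiberι (ηPt R) ζ))
      (F.presheaf.stalk (a.fiberι (ηPt R) ζ)) := by
  haveI : F.IsQuasicoherent := hF.1
  rw [length_stalk_pullback (a.fiberι (ηPt R)) F ζ]
  have h1 : Ideal.map ((a.fiberι (ηPt R)).stalkMap ζ).hom
      (maximalIdeal (X.presheaf.stalk (a.fiberι (ηPt R) ζ))) =
      maximalIdeal ((a.fiber (ηPt R)).presheaf.stalk ζ) :=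
    map_maximalIdeal_of_surjective' _ ((a.fiberι (ηPt R)).stalkMap_surjective ζ)
  rw [h1, length_quot_maximalIdeal, mul_one]

include hF hδη in
theorem sheafFun_η (ζ : ↥(a.fiber (ηPt R))) :
    Cyc.sheafFun δη r ((Scheme.Modules.pullback (a.fiberι (ηPt R))).obj F) ζ =
      Cyc.sheafFun (δX a) (r + 1) F (a.fiberι (ηPt R) ζ) := by
  unfold Cyc.sheafFun
  rw [δX_fiberι_η a δη hδη ζ, length_stalk_pullback_η a F hF ζ]
  by_cases h : δη ζ = r
  · rw [if_pos h, if_pos (by omega)]
  · rw [if_neg h, if_neg (by omega)]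

include hF in
theorem length_stalk_pullback_s (x : ↥(a.fiber (sPt R))) :
    Module.length ((a.fiber (sPt R)).presheaf.stalk x)
      (((Scheme.Modules.pullback (a.fiberι (sPt R))).obj F).presheaf.stalk x) =
    Module.length (X.presheaf.stalk (a.fiberι (sPt R) x))
      (F.presheaf.stalk (a.fiberι (sPt R) x) ⧸ ϖ a (a.fiberι (sPt R) x) •
        (⊤ : Submodule (X.presheaf.stalk (a.fiberι (sPt R) x))
          (F.presheaf.stalk (a.fiberι (sPt R) x)))) :=
  length_stalk_pullback_zeroScheme (a.fiberι (sPt R)) F hF x _ (ker_stalkMap_fiberι_s a x)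

theorem germ_πS_ne_zero (y : S R) : ((S R).presheaf.germ ⊤ y trivial).hom (πS R) ≠ 0 := by
  intro h
  have hinj := germ_injective_of_isIntegral (X := S R) (U := ⊤) y trivial
  have h0 : πS R = 0 := hinj (by rw [h, map_zero])
  unfold πS at h0
  have hinj' : Function.Injective (Scheme.ΓSpecIso (CommRingCat.of R)).inv.hom :=
    (ConcreteCategory.bijective_of_isIso _).1
  exact unif_ne_zero R (hinj' (by rw [h0, map_zero]))

theorem isSMulRegular_ϖ_of_flat (hflat : FlatMod.IsFlatOver a F) (x : X) :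
    IsSMulRegular (F.presheaf.stalk x) (ϖ a x) := by
  have hfl := hflat x
  unfold FlatMod.IsFlatOverAt at hfl
  letI := FlatMod.moduleStalkOver a F x
  have hreg : IsSMulRegular (F.presheaf.stalk x)
      (((S R).presheaf.germ ⊤ (a x) trivial).hom (πS R)) :=
    Module.Flat.isSMulRegular_of_nonZeroDivisors
      (mem_nonZeroDivisors_of_ne_zero (germ_πS_ne_zero (a x)))
  intro m₁ m₂ h
  apply hreg
  have e : ∀ m : F.presheaf.stalk x, ((S R).presheaf.germ ⊤ (a x) trivial).hom (πS R) • m =
      ϖ a x • m := by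
    intro m
    rw [← stalkMap_germ_πS a x]
    rfl
  simp only [e]
  exact h

theorem stalkSpecializes_ϖ {x ξ : X} (h : ξ ⤳ x) :
    (X.presheaf.stalkSpecializes h).hom (ϖ a x) = ϖ a ξ := by
  unfold ϖ
  exact TopCat.Presheaf.germ_stalkSpecializes_apply _ _ _ _

theorem notMem_primeOf_iff {x ξ : X} (h : ξ ⤳ x) : ϖ a x ∉ primeOf h ↔ a ξ = ηPt R := by
  rw [← isUnit_ϖ_iff a ξ, ← stalkSpecializes_ϖ a h]
  constructor
  · intro hn
    exact isUnit_stalkSpecializes_of_notMem h _ hn
  · intro hu
    exact notMem_primeOf_of_isUnit h _ hu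

include hF in
/-- a point of the support over the closed point has a generization in the support over the
generic point -/
theorem exists_generization (hflat : FlatMod.IsFlatOver a F) (x : X)
    (hnt : Nontrivial (F.presheaf.stalk x)) :
    ∃ ξ : X, ξ ⤳ x ∧ a ξ = ηPt R ∧ Nontrivial (F.presheaf.stalk ξ) := by
  haveI : F.IsQuasicoherent := hF.1
  haveI : Module.Finite (X.presheaf.stalk x) (F.presheaf.stalk x) :=
    Groth.Agent.Lib.Helper7.StalkFree.finite_stalk_of_isCoh X F hF x
  have hreg := isSMulRegular_ϖ_of_flat a F hflat x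
  have hex : ∃ p ∈ Module.support (X.presheaf.stalk x) (F.presheaf.stalk x),
      ϖ a x ∉ p.asIdeal := by
    by_contra hcon
    push Not at hcon
    have hrad : ϖ a x ∈ (Module.annihilator (X.presheaf.stalk x) (F.presheaf.stalk x)).radical := by
      rw [← PrimeSpectrum.vanishingIdeal_zeroLocus_eq_radical, PrimeSpectrum.mem_vanishingIdeal]
      intro p hp
      apply hcon p
      rw [Module.support_eq_zeroLocus]
      exact hp
    obtain ⟨n, hn⟩ := hrad
    obtain ⟨m, hm⟩ := exists_ne (0 : F.presheaf.stalk x)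
    apply hm
    have h1 : (ϖ a x) ^ n • m = 0 := Module.mem_annihilator.1 hn m
    have h2 : IsSMulRegular (F.presheaf.stalk x) ((ϖ a x) ^ n) := hreg.pow n
    exact h2 (by simpa using h1)
  obtain ⟨p, hp, hfp⟩ := hex
  haveI := p.isPrime
  obtain ⟨ξ, h, hpξ⟩ := exists_primeOf_eq x p.asIdeal
  have hpeq : p = ⟨primeOf h, inferInstance⟩ := PrimeSpectrum.ext hpξ.symm
  refine ⟨ξ, h, ?_, ?_⟩
  · rw [← notMem_primeOf_iff a h, hpξ]
    exact hfp
  · rw [← mem_support_iff F h, ← hpeq]
    exact hp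

theorem sheafFun_eq_zero_of_subsingleton (δ : X → ℤ) (k : ℤ) (ξ : X)
    (h : ¬ Nontrivial (F.presheaf.stalk ξ)) : Cyc.sheafFun δ k F ξ = 0 := by
  rw [not_nontrivial_iff_subsingleton] at h
  unfold Cyc.sheafFun
  split_ifs
  · have : Module.length (X.presheaf.stalk ξ) (F.presheaf.stalk ξ) = 0 :=
      Module.length_eq_zero_iff.2 h
    rw [this]
    rfl
  · rfl

include hF hδη hδs in
theorem main1911 (hflat : FlatMod.IsFlatOver a F)
    (hdim : ∀ ζ : ↥(a.fiber (ηPt R)),
      Nontrivial (((Scheme.Modules.pullback (a.fiberι (ηPt R))).obj F).presheaf.stalk ζ) →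
        δη ζ ≤ r) :
    (∀ x : ↥(a.fiber (sPt R)),
      Nontrivial (((Scheme.Modules.pullback (a.fiberι (sPt R))).obj F).presheaf.stalk x) →
        δs x ≤ r) ∧
    Cyc.spFun a (ηPt R) (sPt R) δη δs r
      (Cyc.sheafFun δη r ((Scheme.Modules.pullback (a.fiberι (ηPt R))).obj F)) =
      Cyc.sheafFun δs r ((Scheme.Modules.pullback (a.fiberι (sPt R))).obj F) := by
  haveI : F.IsQuasicoherent := hF.1
  have hXs := isSetup_X a
  haveI : IsLocallyNoetherian X := hXs.1
  -- the support over the generic point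
  have hA : ∀ ξ : X, a ξ = ηPt R → Nontrivial (F.presheaf.stalk ξ) → δX a ξ ≤ r + 1 := by
    intro ξ hξ hnt
    have hr : ξ ∈ Set.range (a.fiberι (ηPt R)) := by
      rw [range_fiberι]
      exact hξ
    obtain ⟨ζ, rfl⟩ := hr
    have hnt' : Nontrivial
        (((Scheme.Modules.pullback (a.fiberι (ηPt R))).obj F).presheaf.stalk ζ) := by
      by_contra hcon
      rw [not_nontrivial_iff_subsingleton] at hcon
      have h0 : Module.length ((a.fiber (ηPt R)).presheaf.stalk ζ)
          (((Scheme.Modules.pullback (a.fiberι (ηPt R))).obj F).presheaf.stalk ζ) = 0 :=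
        Module.length_eq_zero_iff.2 hcon
      rw [length_stalk_pullback_η a F hF ζ, Module.length_eq_zero_iff] at h0
      exact not_subsingleton _ h0
    have := hdim ζ hnt'
    rw [δX_fiberι_η a δη hδη ζ]
    omega
  -- the support over the closed point
  have hB : ∀ x : X, a x = sPt R → Nontrivial (F.presheaf.stalk x) → δX a x ≤ r := by
    intro x hx hnt
    obtain ⟨ξ, hsp, hξ, hntξ⟩ := exists_generization a F hF hflat x hnt
    have h1 := hA ξ hξ hntξ
    have hne : ξ ≠ x := by
      rintro rfl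
      rw [hx] at hξ
      exact ηPt_ne_sPt R hξ.symm
    have h2 := (hXs.2.2 ξ x hsp hne).1
    omega
  have hD : ∀ x : X, Nontrivial (F.presheaf.stalk x) → δX a x ≤ r + 1 := by
    intro x hnt
    rcases eq_ηPt_or_eq_sPt R (a x) with h | h
    · exact hA x h hnt
    · have := hB x h hnt
      omega
  refine ⟨?_, ?_⟩
  · intro x hnt
    have h1 := nontrivial_stalk_of_nontrivial_stalk_pullback (a.fiberι (sPt R)) F x hnt
    have h2 := hB _ (a_fiberι a _ x) h1
    rwa [δX_fiberι_s a δs hδs x] at h2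
  · funext x
    rw [spFun_eq a δη δs hδη hδs r _ x]
    by_cases hx : δs x = r
    swap
    · rw [if_neg hx]
      unfold Cyc.sheafFun
      rw [if_neg hx]
    rw [if_pos hx]
    set xb : X := a.fiberι (sPt R) x with hxb
    have haxb : a xb = sPt R := a_fiberι a _ x
    have hδxb : δX a xb = r := by rw [hxb, δX_fiberι_s a δs hδs x, hx]
    have hcoef : ordSum (δX a)
        (ext a (Cyc.sheafFun δη r ((Scheme.Modules.pullback (a.fiberι (ηPt R))).obj F))) xb
          (ϖ a xb) = ordSum (δX a) (Cyc.sheafFun (δX a) (r + 1) F) xb (ϖ a xb) := by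
      unfold ordSum
      apply finsum_mem_congr rfl
      rintro ξ ⟨hsp, hd⟩
      congr 1
      rcases eq_ηPt_or_eq_sPt R (a ξ) with h | h
      · have hr : ξ ∈ Set.range (a.fiberι (ηPt R)) := by
          rw [range_fiberι]
          exact h
        obtain ⟨ζ, rfl⟩ := hr
        rw [ext_fiberι, sheafFun_η a δη hδη r F hF ζ]
      · rw [ext_of_ne a _ ξ (by rw [h]; exact (ηPt_ne_sPt R).symm)]
        symm
        apply sheafFun_eq_zero_of_subsingleton
        intro hnt
        have := hB ξ h hnt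
        omega
    rw [hcoef, ordSum_sheaf (δX a) hXs r F hF hD xb hδxb (ϖ a xb) (ϖ_mem_maximalIdeal a xb haxb)
      (isSMulRegular_ϖ_of_flat a F hflat xb)]
    unfold Cyc.sheafFun
    rw [if_pos hx, length_stalk_pullback_s a F hF x]

end Groth.Agent.Lib.Helper18.SpSheaf
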