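import Mathlib
import Groth.Agent.Lib.Helper18.Sp.Fibre
import Groth.Agent.Lib.Helper18.P1.Length
import Groth.Agent.Lib.Helper18.P1.Regular
import Groth.Agent.Lib.Helper18.P1.Family
import Groth.Agent.Lib.Helper18.Cyc.DivTransfer
import Groth.Agent.Lib.Helper18.Cyc.StalkLoc

/-!
# Specialization of the cycle of a closed subscheme flat over a discrete valuation ring
-/

set_option autoImplicit false
set_option maxHeartbeats 1000000
set_option linter.style.haveILetI false
set_option linter.unusedSectionVars false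
universe u
open AlgebraicGeometry CategoryTheory Limits IsLocalRing Classical Pointwise

namespace Groth.Agent.Lib.Helper18.SpSub

open Groth.Agent.Lib.Helper18.SpBase Groth.Agent.Lib.Helper18.SpBridge
  Groth.Agent.Lib.Helper18.SpFibre Groth.Agent.Lib.Helper18.Push
  Groth.Agent.Lib.Helper18.P1Core Groth.Agent.Lib.Helper18.CycDiv
  Groth.Agent.Lib.Helper13.StalkSpecLoc Groth.Agent.Lib.Helper18.StalkLoc

section transfer

variable {W X : Scheme.{u}} (ι : W ⟶ X) [IsClosedImmersion ι]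

/-- the order function is compatible with closed immersions -/
theorem ordG_closedImmersion (w ξ : W) (f : X.presheaf.stalk (ι w)) :
    ordG (ι w) f (ι ξ) = ordG w ((ι.stalkMap w).hom f) ξ := by
  have hsp : ι ξ ⤳ ι w ↔ ξ ⤳ w := ι.isClosedEmbedding.isInducing.specializes_iff
  unfold ordG
  by_cases h : ξ ⤳ w
  · rw [dif_pos h, dif_pos (hsp.2 h), specMap_stalkMap ι h (hsp.2 h) f]
    exact ordAt_map_eq ι h (hsp.2 h) (ι.stalkMap_surjective w) (ι.stalkMap_surjective ξ) _
  · rw [dif_neg h, dif_neg (fun h' => h (hsp.1 h'))]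

/-- transfer of the weighted sums of orders along a closed immersion -/
theorem ordSum_closedImmersion (δ : X → ℤ) (cX : X → ℤ) (cW : W → ℤ) (w : W)
    (f : X.presheaf.stalk (ι w))
    (h1 : ∀ ξ : W, ξ ⤳ w → δ (ι w) + 1 = δ (ι ξ) → cX (ι ξ) = cW ξ)
    (h2 : ∀ ξ : X, ξ ⤳ ι w → δ (ι w) + 1 = δ ξ → cX ξ ≠ 0 → ξ ∈ Set.range ι) :
    ordSum δ cX (ι w) f = ordSum (fun w => δ (ι w)) cW w ((ι.stalkMap w).hom f) := by
  have hinj : Function.Injective ι := ι.isClosedEmbedding.injective
  have hsp : ∀ ξ : W, ι ξ ⤳ ι w ↔ ξ ⤳ w := fun ξ =>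
    ι.isClosedEmbedding.isInducing.specializes_iff
  unfold ordSum
  have e1 : ∑ᶠ ξ ∈ {ξ : W | ξ ⤳ w ∧ δ (ι w) + 1 = δ (ι ξ)},
      cW ξ * ordG w ((ι.stalkMap w).hom f) ξ =
      ∑ᶠ ξ ∈ {ξ : W | ξ ⤳ w ∧ δ (ι w) + 1 = δ (ι ξ)}, cX (ι ξ) * ordG (ι w) f (ι ξ) := by
    apply finsum_mem_congr rfl
    rintro ξ ⟨hξ, hd⟩
    rw [h1 ξ hξ hd, ordG_closedImmersion]
  rw [e1, ← finsum_mem_image (f := fun ξ : X => cX ξ * ordG (ι w) f ξ) hinj.injOn]
  apply finsum_mem_inter_support_eq'
  intro ξ hξ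
  have hne : cX ξ ≠ 0 := left_ne_zero_of_mul hξ
  constructor
  · rintro ⟨hs, hd⟩
    obtain ⟨ξ', rfl⟩ := h2 ξ hs hd hne
    exact ⟨ξ', ⟨(hsp ξ').1 hs, hd⟩, rfl⟩
  · rintro ⟨ξ', ⟨hs, hd⟩, rfl⟩
    exact ⟨(hsp ξ').2 hs, hd⟩

end transfer

section fibres

variable {R : Type u} [CommRing R] [IsDomain R] [IsDiscreteValuationRing R]
  {X : Scheme.{u}} (a : X ⟶ S R) [LocallyOfFiniteType a]
  (δη : ↥(a.fiber (ηPt R)) → ℤ) (δs : ↥(a.fiber (sPt R)) → ℤ)
  (hδη : Cyc.DeltaCompat (a.fiberToSpecResidueField (ηPt R)) δη (fun _ => 0))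
  (hδs : Cyc.DeltaCompat (a.fiberToSpecResidueField (sPt R)) δs (fun _ => 0))
  (r : ℤ) {W : Scheme.{u}} (ι : W ⟶ X) [IsClosedImmersion ι]

theorem ϖ_comp (w : W) : ϖ (ι ≫ a) w = (ι.stalkMap w).hom (ϖ a (ι w)) := by
  unfold ϖ
  exact (Scheme.Hom.germ_stalkMap_apply ι ⊤ w trivial (πX a)).symm

theorem pullback_apply_eq {A B C : Scheme.{u}} (f : A ⟶ C) (g : B ⟶ C) (z : ↥(pullback f g)) :
    f (pullback.fst f g z) = g (pullback.snd f g z) :=
  congrArg (fun F : pullback f g ⟶ C => F z) (pullback.condition (f := f) (g := g))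

/-- the cycle of the generic fibre of `W`, off `W` -/
theorem subschemeFun_η_of_notMem (ζ : ↥(a.fiber (ηPt R)))
    (h : a.fiberι (ηPt R) ζ ∉ Set.range ι) :
    Cyc.subschemeFun δη r (pullback.snd ι (a.fiberι (ηPt R))) ζ = 0 := by
  unfold Cyc.subschemeFun
  split_ifs
  · apply finsum_mem_eq_zero_of_forall_eq_zero
    intro z hz
    exfalso
    apply h
    refine ⟨pullback.fst ι (a.fiberι (ηPt R)) z, ?_⟩
    rw [pullback_apply_eq, show pullback.snd ι (a.fiberι (ηPt R)) z = ζ from hz]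
  · rfl

/-- the cycle of the generic fibre of `W`, on `W` -/
theorem subschemeFun_η (z : ↥(pullback ι (a.fiberι (ηPt R))))
    (hr : δη (pullback.snd ι (a.fiberι (ηPt R)) z) = r) :
    Cyc.subschemeFun δη r (pullback.snd ι (a.fiberι (ηPt R)))
        (pullback.snd ι (a.fiberι (ηPt R)) z) =
      ((Module.length (W.presheaf.stalk (pullback.fst ι (a.fiberι (ηPt R)) z))
        (W.presheaf.stalk (pullback.fst ι (a.fiberι (ηPt R)) z))).toNat : ℤ) := by
  unfold Cyc.subschemeFun
  rw [if_pos hr]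
  have hinj : Function.Injective (pullback.snd ι (a.fiberι (ηPt R))) :=
    (pullback.snd ι (a.fiberι (ηPt R))).isClosedEmbedding.injective
  have hset : {z' : ↥(pullback ι (a.fiberι (ηPt R))) |
      pullback.snd ι (a.fiberι (ηPt R)) z' = pullback.snd ι (a.fiberι (ηPt R)) z} = {z} := by
    ext z'
    simp only [Set.mem_ofPred_eq, Set.mem_singleton_iff]
    exact ⟨fun h => hinj h, fun h => by rw [h]⟩
  rw [hset, finsum_mem_singleton]
  have hb : Function.Bijective ((pullback.fst ι (a.fiberι (ηPt R))).stalkMap z).hom :=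
    ConcreteCategory.bijective_of_isIso _
  rw [Groth.Agent.Lib.Helper18.FieldBC.length_self_eq_of_ringEquiv
    (RingEquiv.ofBijective _ hb)]

theorem subschemeFun_s_of_notMem (x : ↥(a.fiber (sPt R)))
    (h : a.fiberι (sPt R) x ∉ Set.range ι) :
    Cyc.subschemeFun δs r (pullback.snd ι (a.fiberι (sPt R))) x = 0 := by
  unfold Cyc.subschemeFun
  split_ifs
  · apply finsum_mem_eq_zero_of_forall_eq_zero
    intro z hz
    exfalso
    apply h
    refine ⟨pullback.fst ι (a.fiberι (sPt R)) z, ?_⟩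
    rw [pullback_apply_eq, show pullback.snd ι (a.fiberι (sPt R)) z = x from hz]
  · rfl

theorem ker_stalkMapOfEq_fiberι_s (x : ↥(a.fiber (sPt R))) (y : X)
    (h : a.fiberι (sPt R) x = y) :
    RingHom.ker (stalkMapOfEq (a.fiberι (sPt R)) x y h) = Ideal.span {ϖ a y} := by
  subst h
  have : stalkMapOfEq (a.fiberι (sPt R)) x (a.fiberι (sPt R) x) rfl =
      ((a.fiberι (sPt R)).stalkMap x).hom := by
    ext t
    exact stalkMapOfEq_rfl _ _ t
  rw [this]
  exact ker_stalkMap_fiberι_s a x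

/-- the cycle of the special fibre of `W`, on `W` -/
theorem subschemeFun_s (z : ↥(pullback ι (a.fiberι (sPt R))))
    (hr : δs (pullback.snd ι (a.fiberι (sPt R)) z) = r) :
    Cyc.subschemeFun δs r (pullback.snd ι (a.fiberι (sPt R)))
        (pullback.snd ι (a.fiberι (sPt R)) z) =
      ((Module.length (W.presheaf.stalk (pullback.fst ι (a.fiberι (sPt R)) z))
        (W.presheaf.stalk (pullback.fst ι (a.fiberι (sPt R)) z) ⧸
          ϖ (ι ≫ a) (pullback.fst ι (a.fiberι (sPt R)) z) •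
            (⊤ : Submodule (W.presheaf.stalk (pullback.fst ι (a.fiberι (sPt R)) z))
              (W.presheaf.stalk (pullback.fst ι (a.fiberι (sPt R)) z))))).toNat : ℤ) := by
  unfold Cyc.subschemeFun
  rw [if_pos hr]
  have hinj : Function.Injective (pullback.snd ι (a.fiberι (sPt R))) :=
    (pullback.snd ι (a.fiberι (sPt R))).isClosedEmbedding.injective
  have hset : {z' : ↥(pullback ι (a.fiberι (sPt R))) |
      pullback.snd ι (a.fiberι (sPt R)) z' = pullback.snd ι (a.fiberι (sPt R)) z} = {z} := by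
    ext z'
    simp only [Set.mem_ofPred_eq, Set.mem_singleton_iff]
    exact ⟨fun h => hinj h, fun h => by rw [h]⟩
  rw [hset, finsum_mem_singleton]
  have sq : IsPullback (pullback.fst ι (a.fiberι (sPt R))) (pullback.snd ι (a.fiberι (sPt R)))
      ι (a.fiberι (sPt R)) := IsPullback.of_hasPullback _ _
  have hc := sq_apply sq z
  have hker : RingHom.ker ((pullback.fst ι (a.fiberι (sPt R))).stalkMap z).hom =
      Ideal.span {ϖ (ι ≫ a) (pullback.fst ι (a.fiberι (sPt R)) z)} := by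
    have h1 := ker_stalkMapOfEq_fiberι_s a (pullback.snd ι (a.fiberι (sPt R)) z) _ hc
    rw [ϖ_comp]
    apply le_antisymm
    · refine (ker_stalkMap_le sq z hc).trans ?_
      rw [h1, Ideal.map_span, Set.image_singleton]
    · refine le_trans ?_ (map_ker_le_ker_stalkMap sq z hc)
      rw [h1, Ideal.map_span, Set.image_singleton]
  rw [Groth.Agent.Lib.Helper18.P1Core.length_self_eq_length_quot_smul
    ((pullback.fst ι (a.fiberι (sPt R))).stalkMap z).hom
    ((pullback.fst ι (a.fiberι (sPt R))).stalkMap_surjective z) _ hker]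

/-- the coefficient function of the generic fibre of `W`, extended by zero -/
noncomputable def cX : X → ℤ :=
  ext a (Cyc.subschemeFun δη r (pullback.snd ι (a.fiberι (ηPt R))))

theorem cX_eq_zero (ξ : X) (h : ξ ∉ Set.range ι) : cX a δη r ι ξ = 0 := by
  unfold cX
  by_cases hr : ξ ∈ Set.range (a.fiberι (ηPt R))
  · obtain ⟨ζ, rfl⟩ := hr
    rw [ext_fiberι]
    exact subschemeFun_η_of_notMem a δη r ι ζ h
  · exact ext_of_notMem a _ ξ hr

theorem cX_eq (z : ↥(pullback ι (a.fiberι (ηPt R))))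
    (hr : δη (pullback.snd ι (a.fiberι (ηPt R)) z) = r) :
    cX a δη r ι (ι (pullback.fst ι (a.fiberι (ηPt R)) z)) =
      ((Module.length (W.presheaf.stalk (pullback.fst ι (a.fiberι (ηPt R)) z))
        (W.presheaf.stalk (pullback.fst ι (a.fiberι (ηPt R)) z))).toNat : ℤ) := by
  unfold cX
  rw [pullback_apply_eq, ext_fiberι]
  exact subschemeFun_η a δη r ι z hr

theorem ordSum_point_congr (δ : X → ℤ) (c : X → ℤ) {x x' : X} (h : x = x') :
    ordSum δ c x (ϖ a x) = ordSum δ c x' (ϖ a x') := by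
  subst h
  rfl

/-- every point of a scheme flat over the base has a generization over the generic point -/
theorem exists_generization_struct {W : Scheme.{u}} (b : W ⟶ S R) [Flat b] (w : W) :
    ∃ ξ : W, ξ ⤳ w ∧ b ξ = ηPt R := by
  have hreg := isSMulRegular_ϖ b w
  have hex : ∃ p : PrimeSpectrum (W.presheaf.stalk w), ϖ b w ∉ p.asIdeal := by
    by_contra hcon
    push Not at hcon
    have hnil : ϖ b w ∈ nilradical (W.presheaf.stalk w) := by
      rw [nilradical_eq_sInf, Ideal.mem_sInf]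
      intro J hJ
      exact hcon ⟨J, hJ⟩
    obtain ⟨n, hn⟩ := hnil
    have h2 : IsSMulRegular (W.presheaf.stalk w) ((ϖ b w) ^ n) := hreg.pow n
    rw [hn] at h2
    have : (1 : W.presheaf.stalk w) = 0 := h2 (by simp)
    exact one_ne_zero this
  obtain ⟨p, hp⟩ := hex
  haveI := p.isPrime
  obtain ⟨ξ, h, hpξ⟩ := exists_primeOf_eq w p.asIdeal
  refine ⟨ξ, h, ?_⟩
  rw [← isUnit_ϖ_iff b ξ]
  have : (W.presheaf.stalkSpecializes h).hom (ϖ b w) = ϖ b ξ := by
    unfold ϖ
    exact TopCat.Presheaf.germ_stalkSpecializes_apply _ _ _ _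
  rw [← this]
  exact isUnit_stalkSpecializes_of_notMem h _ (hpξ ▸ hp)

include hδη hδs in
theorem main1910 [Flat (ι ≫ a)]
    (hdim : ∀ ζ : ↥(a.fiber (ηPt R)), a.fiberι (ηPt R) ζ ∈ Set.range ι → δη ζ ≤ r) :
    (∀ x : ↥(a.fiber (sPt R)), a.fiberι (sPt R) x ∈ Set.range ι → δs x ≤ r) ∧
    Cyc.spFun a (ηPt R) (sPt R) δη δs r
      (Cyc.subschemeFun δη r (pullback.snd ι (a.fiberι (ηPt R)))) =
      Cyc.subschemeFun δs r (pullback.snd ι (a.fiberι (sPt R))) := by
  have hXs := isSetup_X a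
  haveI : IsLocallyNoetherian X := hXs.1
  set δW : W → ℤ := fun w => δX a (ι w) with hδW
  have hWs : Cyc.IsSetup W δW := isSetup_of_lft ι (δX a) hXs δW
    (Groth.Agent.Lib.Helper18.P1Family.deltaCompat_closedImmersion ι (δX a))
  haveI : IsLocallyNoetherian W := hWs.1
  -- points of `W` over the generic point
  have hA : ∀ w : W, a (ι w) = ηPt R → δW w ≤ r + 1 := by
    intro w hw
    have hr : ι w ∈ Set.range (a.fiberι (ηPt R)) := by
      rw [range_fiberι]
      exact hw
    obtain ⟨ζ, hζ⟩ := hr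
    have h1 := hdim ζ (hζ ▸ ⟨w, rfl⟩)
    show δX a (ι w) ≤ r + 1
    rw [← hζ, δX_fiberι_η a δη hδη ζ]
    omega
  -- points of `W` over the closed point
  have hB : ∀ w : W, a (ι w) = sPt R → δW w ≤ r := by
    intro w hw
    obtain ⟨ξ, hsp, hξ⟩ := exists_generization_struct (ι ≫ a) w
    have h1 := hA ξ hξ
    have hne : ξ ≠ w := by
      rintro rfl
      have : a (ι ξ) = ηPt R := hξ
      rw [hw] at this
      exact ηPt_ne_sPt R this.symm
    have h2 := (hWs.2.2 ξ w hsp hne).1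
    omega
  refine ⟨?_, ?_⟩
  · rintro x ⟨w, hw⟩
    have h1 := hB w (by rw [hw]; exact a_fiberι a _ x)
    have h2 : δW w = δs x := by
      show δX a (ι w) = δs x
      rw [hw, δX_fiberι_s a δs hδs x]
    omega
  · funext x
    rw [spFun_eq a δη δs hδη hδs r _ x]
    by_cases hx : δs x = r
    swap
    · rw [if_neg hx]
      unfold Cyc.subschemeFun
      rw [if_neg hx]
    rw [if_pos hx]
    by_cases hmem : a.fiberι (sPt R) x ∈ Set.range ι
    · obtain ⟨w, hw⟩ := hmem
      obtain ⟨z, hz1, hz2⟩ := Scheme.Pullback.exists_preimage_pullback w x hw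
      subst hz2
      subst hz1
      rw [subschemeFun_s a δs r ι z hx]
      set w := pullback.fst ι (a.fiberι (sPt R)) z with hwdef
      have haw : a (ι w) = sPt R := by rw [hw]; exact a_fiberι a _ _
      have hδw : δW w = r := by
        show δX a (ι w) = r
        rw [hw, δX_fiberι_s a δs hδs _, hx]
      have hdimW : ∀ ξ : W, ξ ⤳ w → δW ξ ≤ r + 1 := by
        intro ξ _
        rcases eq_ηPt_or_eq_sPt R (a (ι ξ)) with h | h
        · exact hA ξ h
        · have := hB ξ h
          omega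
      have h1 : ∀ ξ : W, ξ ⤳ w → δX a (ι w) + 1 = δX a (ι ξ) →
          cX a δη r ι (ι ξ) =
            ((Module.length (W.presheaf.stalk ξ) (W.presheaf.stalk ξ)).toNat : ℤ) := by
        intro ξ _ hd
        have hd' : δW ξ = r + 1 := by
          have : δW w + 1 = δW ξ := hd
          omega
        have hξη : a (ι ξ) = ηPt R := by
          rcases eq_ηPt_or_eq_sPt R (a (ι ξ)) with h | h
          · exact h
          · have := hB ξ h
            omega
        have hr : ι ξ ∈ Set.range (a.fiberι (ηPt R)) := by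
          rw [range_fiberι]
          exact hξη
        obtain ⟨ζ, hζ⟩ := hr
        obtain ⟨z', hz1', hz2'⟩ := Scheme.Pullback.exists_preimage_pullback ξ ζ hζ.symm
        subst hz1'
        subst hz2'
        apply cX_eq
        have : δX a (ι (pullback.fst ι (a.fiberι (ηPt R)) z')) = r + 1 := hd'
        rw [← hζ, δX_fiberι_η a δη hδη _] at this
        omega
      have h2 : ∀ ξ : X, ξ ⤳ ι w → δX a (ι w) + 1 = δX a ξ → cX a δη r ι ξ ≠ 0 →
          ξ ∈ Set.range ι := by
        intro ξ _ _ hne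
        by_contra hn
        exact hne (cX_eq_zero a δη r ι ξ hn)
      have e1 := ordSum_point_congr a (δX a) (cX a δη r ι) hw.symm
      have e2 := ordSum_closedImmersion ι (δX a) (cX a δη r ι)
        (fun ξ => ((Module.length (W.presheaf.stalk ξ) (W.presheaf.stalk ξ)).toNat : ℤ)) w
        (ϖ a (ι w)) h1 h2
      rw [← ϖ_comp] at e2
      have e3 := ordSum_struct δW hWs r w hdimW hδw (ϖ (ι ≫ a) w)
        (ϖ_mem_maximalIdeal (ι ≫ a) w haw) (isSMulRegular_ϖ (ι ≫ a) w)
      exact e1.trans (e2.trans e3)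
    · rw [subschemeFun_s_of_notMem a δs r ι x hmem]
      unfold ordSum
      apply finsum_mem_eq_zero_of_forall_eq_zero
      rintro ξ ⟨hsp, -⟩
      have hcl : IsClosed (Set.range ι) := ι.isClosedEmbedding.isClosed_range
      have hn : ξ ∉ Set.range ι := fun hξ => hmem (hsp.mem_closed hcl hξ)
      show cX a δη r ι ξ * _ = 0
      rw [cX_eq_zero a δη r ι ξ hn, zero_mul]

end fibres

end Groth.Agent.Lib.Helper18.SpSub
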